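import Mathlib
import Cfsg.Agent.H6.ORE.LargeOre
import Cfsg.Agent.H134.Sq.Base_m3
import Cfsg.Agent.KFacts.Th.Main
import Cfsg.Agent.MonsterX.ThOneClass
import Cfsg.Agent.BpSpor.MFiveAbs
import Cfsg.Agent.H123.Cls.SuzOre
import Cfsg.Agent.H123.Cls.SuzNet
import Cfsg.Agent.FastGrp
import Cfsg.Agent.Prune
set_option linter.all false

section
prune_inst 0x7ffffff8ffb8bfffffff7e7ffefffffe7bf5ffffffdffb73fffdfbffcfdf6b67fbe5fbafffec58ffdef7e2be30f87b53fffffeffef6ffc7ffffdfff45ffbffdfffffbfad71f6bc3e1ffe6ffffbf37fffffffffffffffffffffffffffffffffffffffffffffff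

-- part: H980/Ore/ThLoc
section
prune_inst 0x400000000000010000000030000200010000200008800000100009001000002000820040000000040020c09008100001000040c800000000000000000000000000000000000000000000000
set_option linter.all false
open scoped Cfsg.Agent.FastGrp

-- part: H683/Ore/Types
section
/-!
# Enumeration of the cycle types of permutations of `n` points (kernel friendly)
-/

set_option autoImplicit false

namespace Cfsg.Agent.H683.Ore

open Equiv Equiv.Perm

/-- non-increasing lists of length at most `k` with entries between `2` and `b` and sum at most `s` -/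
def gen : ℕ → ℕ → ℕ → List (List ℕ)
  | 0, _, _ => [[]]
  | k + 1, s, b => [] :: (List.range (min s b + 1)).flatMap fun c =>
      if 2 ≤ c then (gen k (s - c) c).map (c :: ·) else []

theorem mem_gen : ∀ (k s b : ℕ) (l : List ℕ), l.length ≤ k → l.Pairwise (· ≥ ·) → (∀ x ∈ l, 2 ≤ x ∧ x ≤ b) →
    l.sum ≤ s → l ∈ gen k s b := by
  intro k
  induction k with
  | zero =>
    intro s b l h1 _ _ _
    have : l = [] := List.length_eq_zero_iff.1 (by omega)
    rw [this]
    exact List.mem_cons_self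
  | succ k ih =>
    intro s b l h1 h2 h3 h4
    rcases l with _ | ⟨c, l⟩
    · exact List.mem_cons_self
    · refine List.mem_cons_of_mem _ ?_
      rw [List.mem_flatMap]
      have hc := h3 c List.mem_cons_self
      rw [List.sum_cons] at h4
      refine ⟨c, List.mem_range.2 (by omega), ?_⟩
      rw [if_pos hc.1]
      rw [List.mem_map]
      refine ⟨l, ih _ _ _ (by simpa using h1) (List.pairwise_cons.1 h2).2 (fun x hx => ⟨(h3 x (List.mem_cons_of_mem _ hx)).1, (List.pairwise_cons.1 h2).1 x hx⟩)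
        (by omega), rfl⟩

/-- the cycle type of a permutation of `n` points is in the list `gen n n n` -/
theorem cycleType_mem_gen {n : ℕ} (σ : Perm (Fin n)) : ∃ l ∈ gen n n n, σ.cycleType = (l : Multiset ℕ) := by
  obtain ⟨l, hl⟩ : ∃ l : List ℕ, l = σ.cycleType.sort (· ≥ ·) := ⟨_, rfl⟩
  have h1 : (l : Multiset ℕ) = σ.cycleType := by rw [hl, Multiset.sort_eq]
  have hs : l.sum ≤ n := by
    have h2 : σ.cycleType.sum ≤ n := by
      rw [sum_cycleType]
      exact (Finset.card_le_univ _).trans (by rw [Fintype.card_fin])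
    rw [← h1] at h2
    simpa using h2
  have h2 : ∀ x ∈ l, 2 ≤ x := by
    intro x hx
    apply two_le_of_mem_cycleType (σ := σ)
    rw [← h1]
    exact hx
  refine ⟨l, mem_gen n n n l ?_ ?_ ?_ hs, h1.symm⟩
  · have h3 : l.length * 1 ≤ l.sum := by
      have := List.card_nsmul_le_sum l 1 (fun x hx => (by norm_num : 1 ≤ 2).trans (h2 x hx))
      simpa using this
    omega
  · rw [hl]
    exact Multiset.pairwise_sort _ _
  · intro x hx
    exact ⟨h2 x hx, (List.le_sum_of_mem hx).trans hs⟩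

end Cfsg.Agent.H683.Ore
end

-- part: H683/Ore/A9
section
/-!
# OreF(A9; 8): every element of `A_9` is a commutator `[a, b]` with `5 ∣ |a|` (and `7 ∣ |b|` for elements `≠ 1`)
-/

set_option autoImplicit false

namespace Cfsg.Agent.H683.Ore.A9

open Equiv Equiv.Perm

/-- permutations of nine points -/
abbrev P9 := Perm (Fin 9)

/-- the certificate for the cycle type `m` -/
def Ok (m : Multiset ℕ) : Prop := ∃ a b : P9, sign a = 1 ∧ sign b = 1 ∧ (a * b * a⁻¹ * b⁻¹).cycleType = m ∧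
   5 ∣ orderOf a ∧ 7 ∣ orderOf b

theorem dvd_of {p : ℕ} (hp : p.Prime) {a : P9} (k : ℕ) (h1 : (a ^ k) ^ p = 1) (h2 : a ^ k ≠ 1) : p ∣ orderOf a := by
  have : Fact p.Prime := ⟨hp⟩
  rw [← orderOf_eq_prime h1 h2]
  exact orderOf_pow_dvd k

theorem ok_of (a b : P9) (m : Multiset ℕ) (i j : ℕ) (h1 : sign a = 1 ∧ sign b = 1)
    (h2 : (a * b * a⁻¹ * b⁻¹).cycleType = m) (h3 : (a ^ i) ^ 5 = 1 ∧ a ^ i ≠ 1) (h4 : (b ^ j) ^ 7 = 1 ∧ b ^ j ≠ 1) :
    Ok m :=
  ⟨a, b, h1.1, h1.2, h2, dvd_of (by norm_num) i h3.1 h3.2, dvd_of (by norm_num) j h4.1 h4.2⟩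

def a1 : P9 := ⟨![7, 5, 0, 6, 8, 1, 3, 4, 2], ![2, 5, 8, 6, 7, 1, 3, 0, 4], by decide, by decide⟩

def b1 : P9 := ⟨![7, 2, 0, 3, 8, 1, 6, 4, 5], ![2, 5, 1, 3, 7, 8, 6, 0, 4], by decide, by decide⟩

theorem ok1 : Ok ([2, 2] : List ℕ) :=
  ok_of a1 b1 _ 2 1 (by decide +kernel) (by decide +kernel) (by decide +kernel) (by decide +kernel)

def a2 : P9 := ⟨![2, 8, 7, 5, 6, 0, 4, 3, 1], ![5, 8, 0, 7, 6, 3, 4, 2, 1], by decide, by decide⟩

def b2 : P9 := ⟨![8, 1, 7, 5, 4, 0, 3, 6, 2], ![5, 1, 8, 6, 4, 3, 7, 2, 0], by decide, by decide⟩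

theorem ok2 : Ok ([2, 2, 2, 2] : List ℕ) :=
  ok_of a2 b2 _ 2 1 (by decide +kernel) (by decide +kernel) (by decide +kernel) (by decide +kernel)

def a3 : P9 := ⟨![1, 0, 7, 4, 8, 6, 3, 2, 5], ![1, 0, 7, 6, 3, 8, 5, 2, 4], by decide, by decide⟩

def b3 : P9 := ⟨![3, 6, 2, 8, 5, 0, 4, 7, 1], ![5, 8, 2, 0, 6, 4, 1, 7, 3], by decide, by decide⟩

theorem ok3 : Ok ([3] : List ℕ) :=
  ok_of a3 b3 _ 2 1 (by decide +kernel) (by decide +kernel) (by decide +kernel) (by decide +kernel)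

def a4 : P9 := ⟨![7, 5, 4, 0, 1, 6, 2, 3, 8], ![3, 4, 6, 7, 2, 1, 5, 0, 8], by decide, by decide⟩

def b4 : P9 := ⟨![8, 5, 7, 3, 4, 6, 2, 0, 1], ![7, 8, 6, 3, 4, 1, 5, 2, 0], by decide, by decide⟩

theorem ok4 : Ok ([3, 2, 2] : List ℕ) :=
  ok_of a4 b4 _ 3 1 (by decide +kernel) (by decide +kernel) (by decide +kernel) (by decide +kernel)

def a5 : P9 := ⟨![2, 0, 5, 1, 6, 3, 4, 8, 7], ![1, 3, 0, 5, 6, 2, 4, 8, 7], by decide, by decide⟩

def b5 : P9 := ⟨![0, 1, 4, 8, 7, 6, 2, 3, 5], ![0, 1, 6, 7, 2, 8, 5, 4, 3], by decide, by decide⟩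

theorem ok5 : Ok ([3, 3] : List ℕ) :=
  ok_of a5 b5 _ 2 1 (by decide +kernel) (by decide +kernel) (by decide +kernel) (by decide +kernel)

def a6 : P9 := ⟨![0, 8, 7, 2, 6, 1, 3, 4, 5], ![0, 5, 3, 6, 7, 8, 4, 2, 1], by decide, by decide⟩

def b6 : P9 := ⟨![5, 1, 2, 4, 0, 7, 8, 6, 3], ![4, 1, 2, 8, 3, 0, 7, 5, 6], by decide, by decide⟩

theorem ok6 : Ok ([3, 3, 3] : List ℕ) :=
  ok_of a6 b6 _ 3 1 (by decide +kernel) (by decide +kernel) (by decide +kernel) (by decide +kernel)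

def a7 : P9 := ⟨![6, 1, 2, 4, 5, 0, 3, 7, 8], ![5, 1, 2, 6, 3, 4, 0, 7, 8], by decide, by decide⟩

def b7 : P9 := ⟨![5, 6, 2, 3, 1, 8, 0, 4, 7], ![6, 4, 2, 3, 7, 0, 1, 8, 5], by decide, by decide⟩

theorem ok7 : Ok ([4, 2] : List ℕ) :=
  ok_of a7 b7 _ 1 1 (by decide +kernel) (by decide +kernel) (by decide +kernel) (by decide +kernel)

def a8 : P9 := ⟨![4, 7, 1, 3, 5, 6, 8, 2, 0], ![8, 2, 7, 3, 0, 4, 5, 1, 6], by decide, by decide⟩

def b8 : P9 := ⟨![5, 1, 7, 2, 4, 6, 3, 8, 0], ![8, 1, 3, 6, 4, 0, 5, 2, 7], by decide, by decide⟩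

theorem ok8 : Ok ([4, 3, 2] : List ℕ) :=
  ok_of a8 b8 _ 3 1 (by decide +kernel) (by decide +kernel) (by decide +kernel) (by decide +kernel)

def a9 : P9 := ⟨![3, 2, 1, 8, 6, 7, 0, 5, 4], ![6, 2, 1, 0, 8, 7, 4, 5, 3], by decide, by decide⟩

def b9 : P9 := ⟨![2, 4, 6, 3, 0, 8, 5, 7, 1], ![4, 8, 0, 3, 1, 6, 2, 7, 5], by decide, by decide⟩

theorem ok9 : Ok ([4, 4] : List ℕ) :=
  ok_of a9 b9 _ 2 1 (by decide +kernel) (by decide +kernel) (by decide +kernel) (by decide +kernel)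

def a10 : P9 := ⟨![1, 7, 2, 8, 6, 4, 5, 3, 0], ![8, 0, 2, 7, 5, 6, 4, 1, 3], by decide, by decide⟩

def b10 : P9 := ⟨![6, 0, 2, 4, 1, 3, 7, 5, 8], ![1, 4, 2, 5, 3, 7, 0, 6, 8], by decide, by decide⟩

theorem ok10 : Ok ([5] : List ℕ) :=
  ok_of a10 b10 _ 3 1 (by decide +kernel) (by decide +kernel) (by decide +kernel) (by decide +kernel)

def a11 : P9 := ⟨![4, 5, 1, 3, 8, 2, 7, 0, 6], ![7, 2, 5, 3, 0, 1, 8, 6, 4], by decide, by decide⟩

def b11 : P9 := ⟨![1, 8, 3, 4, 6, 5, 0, 7, 2], ![6, 0, 8, 2, 3, 5, 4, 7, 1], by decide, by decide⟩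

theorem ok11 : Ok ([5, 2, 2] : List ℕ) :=
  ok_of a11 b11 _ 3 1 (by decide +kernel) (by decide +kernel) (by decide +kernel) (by decide +kernel)

def a12 : P9 := ⟨![2, 0, 4, 7, 6, 5, 1, 8, 3], ![1, 6, 0, 8, 2, 5, 4, 3, 7], by decide, by decide⟩

def b12 : P9 := ⟨![8, 6, 4, 0, 1, 5, 3, 7, 2], ![3, 4, 8, 6, 2, 5, 1, 7, 0], by decide, by decide⟩

theorem ok12 : Ok ([5, 3] : List ℕ) :=
  ok_of a12 b12 _ 3 1 (by decide +kernel) (by decide +kernel) (by decide +kernel) (by decide +kernel)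

def a13 : P9 := ⟨![7, 4, 2, 8, 6, 3, 0, 1, 5], ![6, 7, 2, 5, 1, 8, 4, 0, 3], by decide, by decide⟩

def b13 : P9 := ⟨![7, 2, 3, 6, 4, 0, 5, 1, 8], ![5, 7, 1, 2, 4, 6, 3, 0, 8], by decide, by decide⟩

theorem ok13 : Ok ([6, 2] : List ℕ) :=
  ok_of a13 b13 _ 3 1 (by decide +kernel) (by decide +kernel) (by decide +kernel) (by decide +kernel)

def a14 : P9 := ⟨![5, 1, 6, 2, 8, 4, 3, 0, 7], ![7, 1, 3, 6, 5, 0, 2, 8, 4], by decide, by decide⟩

def b14 : P9 := ⟨![1, 2, 6, 5, 0, 4, 3, 7, 8], ![4, 0, 1, 6, 5, 3, 2, 7, 8], by decide, by decide⟩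

theorem ok14 : Ok ([7] : List ℕ) :=
  ok_of a14 b14 _ 3 1 (by decide +kernel) (by decide +kernel) (by decide +kernel) (by decide +kernel)

def a15 : P9 := ⟨![7, 6, 0, 4, 8, 5, 3, 2, 1], ![2, 8, 7, 6, 3, 5, 1, 0, 4], by decide, by decide⟩

def b15 : P9 := ⟨![8, 1, 6, 0, 2, 4, 3, 7, 5], ![3, 1, 4, 6, 5, 8, 2, 7, 0], by decide, by decide⟩

theorem ok15 : Ok ([9] : List ℕ) :=
  ok_of a15 b15 _ 3 1 (by decide +kernel) (by decide +kernel) (by decide +kernel) (by decide +kernel)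

/-- the even cycle types -/
def types : List (List ℕ) := [[2, 2], [2, 2, 2, 2], [3], [3, 2, 2], [3, 3], [3, 3, 3], [4, 2], [4, 3, 2], [4, 4], [5], [5, 2, 2], [5, 3], [6, 2], [7], [9]]

theorem cases_types : ∀ l ∈ gen 9 9 9, l ≠ [] → (l.sum + l.length) % 2 = 0 → l ∈ types := by decide +kernel

theorem ok_types : ∀ m ∈ types, Ok (m : Multiset ℕ) := by
  intro m hm
  simp only [types, List.mem_cons, List.not_mem_nil, or_false] at hm
  rcases hm with rfl | rfl | rfl | rfl | rfl | rfl | rfl | rfl | rfl | rfl | rfl | rfl | rfl | rfl | rfl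
  · exact ok1
  · exact ok2
  · exact ok3
  · exact ok4
  · exact ok5
  · exact ok6
  · exact ok7
  · exact ok8
  · exact ok9
  · exact ok10
  · exact ok11
  · exact ok12
  · exact ok13
  · exact ok14
  · exact ok15

theorem ok_all (σ : P9) (h1 : σ ≠ 1) (h2 : sign σ = 1) : Ok σ.cycleType := by
  obtain ⟨l, hl, h⟩ := cycleType_mem_gen σ
  rw [h]
  apply ok_types
  refine cases_types l hl ?_ ?_
  · rintro rfl
    exact h1 (cycleType_eq_zero.1 (by rw [h]; rfl))
  · rw [sign_of_cycleType, h] at h2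
    simp only [Multiset.sum_coe, Multiset.coe_card] at h2
    by_contra hodd
    have h3 : Odd (l.sum + l.length) := Nat.odd_iff.2 (by omega)
    rw [h3.neg_one_pow] at h2
    exact absurd h2 (by decide)

/-- **OreF(A9; 8)**, elements `≠ 1` -/
theorem oreF (l : alternatingGroup (Fin 9)) (hl : l ≠ 1) :
    ∃ a b : alternatingGroup (Fin 9), l = a * b * a⁻¹ * b⁻¹ ∧ 5 ∣ orderOf a ∧ 7 ∣ orderOf b := by
  obtain ⟨a, b, ha, hb, hm, h5, h7⟩ := ok_all l.1 (fun h => hl (Subtype.ext h)) (mem_alternatingGroup.1 l.2)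
  obtain ⟨c, hc⟩ := isConj_iff.1 (isConj_iff_cycleType_eq.2 hm)
  have ha' : sign (c * a * c⁻¹) = 1 := by
    rw [map_mul, map_mul, ha, mul_one, ← map_mul, mul_inv_cancel, map_one]
  have hb' : sign (c * b * c⁻¹) = 1 := by
    rw [map_mul, map_mul, hb, mul_one, ← map_mul, mul_inv_cancel, map_one]
  refine ⟨⟨c * a * c⁻¹, mem_alternatingGroup.2 ha'⟩, ⟨c * b * c⁻¹, mem_alternatingGroup.2 hb'⟩, ?_, ?_, ?_⟩
  · apply Subtype.ext
    change l.1 = (c * a * c⁻¹) * (c * b * c⁻¹) * (c * a * c⁻¹)⁻¹ * (c * b * c⁻¹)⁻¹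
    rw [← hc]
    group
  · rw [Subgroup.orderOf_mk]
    have : orderOf (c * a * c⁻¹) = orderOf a := by
      rw [← MulAut.conj_apply]
      exact orderOf_injective (MulAut.conj c).toMonoidHom (MulAut.conj c).injective a
    rwa [this]
  · rw [Subgroup.orderOf_mk]
    have : orderOf (c * b * c⁻¹) = orderOf b := by
      rw [← MulAut.conj_apply]
      exact orderOf_injective (MulAut.conj c).toMonoidHom (MulAut.conj c).injective b
    rwa [this]

/-- **OreF(A9; 8)**, all elements, any model: `5` divides `|a|` (an element of order `5` is fixed point free on both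
spin modules of dimension `8`) -/
theorem oreF_all {L : Type*} [Group L] (e : L ≃* alternatingGroup (Fin 9)) (l : L) :
    ∃ a b : L, l = a * b * a⁻¹ * b⁻¹ ∧ 5 ∣ orderOf a ∧ (l ≠ 1 → 7 ∣ orderOf b) := by
  by_cases hl : l = 1
  · obtain ⟨a, b, ha, hb, hm, h5, h7⟩ := ok1
    refine ⟨e.symm ⟨a, mem_alternatingGroup.2 ha⟩, 1, by rw [hl]; group, ?_, fun h => absurd hl h⟩
    rw [MulEquiv.orderOf_eq, Subgroup.orderOf_mk]
    exact h5
  · obtain ⟨a, b, hab, h5, h7⟩ := oreF (e l) (fun h => hl (e.injective (by rw [h, map_one])))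
    refine ⟨e.symm a, e.symm b, ?_, by rwa [MulEquiv.orderOf_eq], fun _ => by rwa [MulEquiv.orderOf_eq]⟩
    apply e.injective
    rw [hab]
    simp only [map_mul, map_inv, MulEquiv.apply_symm_apply]

end Cfsg.Agent.H683.Ore.A9
end

-- part: H980/Ore/ThLoc
section
/-!
# Ore for the Thompson group, local part (helper980)

Every element of the centralizer `2^(1+8).A9` of the involution `γ 1` is a commutator.
-/

set_option autoImplicit false
set_option maxRecDepth 100000

namespace Cfsg.Agent.H980.Ore.ThLoc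

open Cfsg.Agent.Th.Base Cfsg.Agent.Th.Word Cfsg.Agent.Th.RelWords Cfsg.Agent.Th.PermTab
  Cfsg.Agent.Th.KOracle Cfsg.Agent.Th.KPerm Cfsg.Agent.Th.NineAct Cfsg.Agent.Th.CStruct
  Cfsg.Agent.Th.COracleDef Cfsg.Agent.Th.IndexUpper
open Cfsg.Agent.KFacts.Th.Mask Cfsg.Agent.KFacts.Th.Struct
open Cfsg.Agent.H777.Ore

universe u

/-! ## masks and products -/

section mask

variable {G : Type u} [Group G] {a : G} {c : Fin 9 → G}

/-- `a ^ e` -/
def pa (a : G) (e : Bool) : G := if e then a else 1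

/-- the parity of the bits of `m` in the list `l` -/
def parL (m : ℕ) (l : List ℕ) : Bool := l.foldr (fun j r => (m.testBit j) ^^ r) false

theorem comm_prod (ha : ∀ i, a * c i = c i * a) (haa : a * a = 1) {x : G} {m : ℕ} (hax : a * x = x * a)
    (hm : HM a c x m) : ∀ l : List (Fin 9),
    x * (l.map c).prod = pa a (parL m (l.map fun i : Fin 9 => i.val)) * ((l.map c).prod * x)
  | [] => by simp [pa, parL]
  | i :: l => by
    have ih := comm_prod ha haa hax hm l
    have h1 := hm.2 i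
    rw [List.map_cons, List.prod_cons, List.map_cons]
    have e1 : parL m (i.val :: l.map fun i : Fin 9 => i.val) = ((m.testBit i.val) ^^ parL m (l.map fun i : Fin 9 => i.val)) := rfl
    rw [e1]
    set P := (l.map c).prod with hP
    set e := parL m (l.map fun i : Fin 9 => i.val) with he
    have hpe : ∀ y : G, a * y = y * a → pa a e * y = y * pa a e := by
      intro y hy
      unfold pa
      split_ifs
      · exact hy
      · simp
    cases hb : m.testBit (i : ℕ) with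
    | false =>
      have h2 := h1.1 hb
      calc x * (c i * P) = (x * c i) * P := by group
        _ = c i * (x * P) := by rw [h2]; group
        _ = c i * (pa a e * (P * x)) := by rw [ih]
        _ = (c i * pa a e) * (P * x) := by group
        _ = pa a e * (c i * P * x) := by rw [← hpe _ (ha i)]; group
        _ = pa a (false ^^ e) * (c i * P * x) := by rw [Bool.false_xor]
    | true =>
      have h2 := h1.2 hb
      have h3 : pa a (true ^^ e) = a * pa a e := by
        unfold pa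
        cases e <;> simp [haa]
      rw [h3]
      calc x * (c i * P) = (x * c i) * P := by group
        _ = a * (c i * (x * P)) := by rw [h2]; group
        _ = a * (c i * (pa a e * (P * x))) := by rw [ih]
        _ = a * ((c i * pa a e) * (P * x)) := by group
        _ = a * pa a e * (c i * P * x) := by rw [← hpe _ (ha i)]; group

theorem conj_mask (ha : ∀ i, a * c i = c i * a) (haa : a * a = 1) {x g : G} {m : ℕ}
    (hax : a * x = x * a) (hag : g⁻¹ * a * g = a) (hm : HM a c x m) {i : Fin 9} {l : List (Fin 9)} {e : Bool}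
    (hc : g * c i * g⁻¹ = (l.map c).prod * pa a e) :
    (parL m (l.map fun i : Fin 9 => i.val) = false → (g⁻¹ * x * g) * c i = c i * (g⁻¹ * x * g)) ∧
    (parL m (l.map fun i : Fin 9 => i.val) = true → (g⁻¹ * x * g) * c i = a * (c i * (g⁻¹ * x * g))) := by
  have h1 := comm_prod ha haa hax hm l
  have hpe : ∀ (e : Bool) (y : G), a * y = y * a → pa a e * y = y * pa a e := by
    intro e y hy
    unfold pa
    split_ifs
    · exact hy
    · simp
  set P := (l.map c).prod with hP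
  set r := parL m (l.map fun i : Fin 9 => i.val) with hr
  have h2 : x * (g * c i * g⁻¹) = pa a r * ((g * c i * g⁻¹) * x) := by
    rw [hc]
    calc x * (P * pa a e) = (x * P) * pa a e := by group
      _ = pa a r * (P * (x * pa a e)) := by rw [h1]; group
      _ = pa a r * (P * pa a e * x) := by rw [← hpe e x hax]; group
  have h3 : (g⁻¹ * x * g) * c i = (g⁻¹ * pa a r * g) * (c i * (g⁻¹ * x * g)) := by
    calc (g⁻¹ * x * g) * c i = g⁻¹ * (x * (g * c i * g⁻¹)) * g := by group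
      _ = _ := by rw [h2]; group
  constructor
  · intro h
    rw [h] at h3
    rw [h3]
    simp [pa]
  · intro h
    rw [h] at h3
    rw [h3]
    have : g⁻¹ * pa a true * g = a := by simpa [pa] using hag
    rw [this]

end mask

/-! ## an element of order five -/

/-- the word of an element of order five -/
def wy : List ℕ := [4, 7, 10, 4, 10]

/-- `wy cᵢ wy⁻¹` as a product of the `cⱼ` -/
def tab : List (List ℕ) := [[1,2,5,6],[2,3,5,6],[0,2,5,6],[0,1,3,8],[4,6,7,8],[0,1,3,4],[2,4,7,8],[4,5,7,8],[0,1,3,7]]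

/-- signs -/
def eps : List Bool := [false,false,true,false,true,false,false,true,false]

def S (i : ℕ) : List ℕ := tab.getD i []

theorem S_check : allB 9 (fun i => corc (wy ++ (wc i ++ (iw wy ++ (iw ((S i).flatMap wc) ++
    (bif eps.getD i false then [1] else [])))))) = true := by decide +kernel

theorem S_lt : allB 9 (fun i => allG (fun j => Nat.ble j 8) (S i)) = true := by decide +kernel

theorem wy_isC : ∀ x ∈ wy, isC x = true := by decide

theorem fix_check : ∀ m < 512, (∀ i < 9, parL m (S i) = m.testBit i) → m = 0 := by decide +kernel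

theorem wy5 : corc (wy ++ (wy ++ (wy ++ (wy ++ wy)))) = true := by decide +kernel

section ctx

variable {G : Type u} [Group G] {γ : ℕ → G} (h : Ctx γ)
include h

theorem corc1 {w : List ℕ} (hw : corc w = true) : ev γ w = 1 :=
  Cfsg.Agent.Th.COracleSound.corc_sound h.inv h.C hw

/-- the element of order five -/
theorem y_pow : (ev γ wy) ^ 5 = 1 := by
  have h1 := corc1 h wy5
  simp only [ev_append] at h1
  rw [← h1]
  simp only [pow_succ, pow_zero, one_mul, mul_assoc]

omit h in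
theorem y_mem : ev γ wy ∈ sub γ isC := ev_mem_sub wy_isC

theorem S_rel (i : Fin 9) : ∃ l : List (Fin 9), (l.map fun i : Fin 9 => i.val) = S i ∧ ∃ e : Bool,
    ev γ wy * cc γ i * (ev γ wy)⁻¹ = (l.map (cc γ)).prod * pa (γ 1) e := by
  have h1 := corc1 h ((allB_iff _ _).mp S_check i i.2)
  have h2 := (allB_iff _ _).mp S_lt i i.2
  have h3 : ∀ j ∈ S i, j < 9 := fun j hj => by
    have := (allG_iff _ _).mp h2 j hj
    have := Nat.le_of_ble_eq_true this
    omega
  refine ⟨(S i).attach.map fun j => ⟨j.1, h3 j.1 j.2⟩, ?_, eps.getD i false, ?_⟩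
  · rw [List.map_map]
    simp [Function.comp_def]
  · have h4 : (((S i).attach.map fun j => (⟨j.1, h3 j.1 j.2⟩ : Fin 9)).map (cc γ)).prod = ev γ ((S i).flatMap wc) := by
      have key : ∀ l : List ℕ, ev γ (l.flatMap wc) = (l.map fun j => ev γ (wc j)).prod := by
        intro l
        induction l with
        | nil => rfl
        | cons x l ih => rw [List.flatMap_cons, ev_append, ih, List.map_cons, List.prod_cons]
      rw [key, List.map_map]
      congr 1
      rw [show (cc γ ∘ fun j : {x // x ∈ S i} => (⟨j.1, h3 j.1 j.2⟩ : Fin 9)) = fun j => ev γ (wc j.1) from rfl]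
      exact List.attach_map_val (f := fun j => ev γ (wc j))
    rw [h4]
    rw [ev_append, ev_append, ev_append, ev_append, ev_iw h.inv, ev_iw h.inv] at h1
    have h5 : ev γ (bif eps.getD i false then [1] else []) = pa (γ 1) (eps.getD i false) := by
      cases eps.getD i false <;> simp [pa]
    rw [h5] at h1
    have h6 : pa (γ 1) (eps.getD i false) * pa (γ 1) (eps.getD i false) = 1 := by
      unfold pa; split_ifs
      · exact h.aa
      · simp
    have h7 : ∀ y ∈ Q0 γ, pa (γ 1) (eps.getD i false) * y = y * pa (γ 1) (eps.getD i false) := by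
      intro y hy
      unfold pa; split_ifs
      · exact h.Q_comm hy
      · simp
    have h8 : ev γ wy * cc γ i * (ev γ wy)⁻¹ = pa (γ 1) (eps.getD i false) * ev γ ((S i).flatMap wc) := by
      have e1 : ev γ wy * (ev γ (wc i) * ((ev γ wy)⁻¹ * ((ev γ ((S i).flatMap wc))⁻¹ * pa (γ 1) (eps.getD i false)))) =
        (ev γ wy * cc γ i * (ev γ wy)⁻¹) * ((ev γ ((S i).flatMap wc))⁻¹ * pa (γ 1) (eps.getD i false)) := by
        show _ = (ev γ wy * ev γ (wc i) * (ev γ wy)⁻¹) * _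
        group
      rw [e1] at h1
      rw [eq_inv_of_mul_eq_one_left h1, mul_inv_rev, inv_inv, inv_eq_of_mul_eq_one_left h6]
    rw [h8]
    apply h7
    rw [← h4]
    apply Subgroup.list_prod_mem
    intro y hy
    obtain ⟨j, -, rfl⟩ := List.mem_map.1 hy
    exact h.cc_mem j

/-- the element of order five is fixed point free on `Q/⟨a⟩` -/
theorem y_fpf {x : G} (hx : x ∈ Q0 γ)
    (hf : (ev γ wy)⁻¹ * x * ev γ wy = x ∨ (ev γ wy)⁻¹ * x * ev γ wy = x * γ 1) : x = 1 ∨ x = γ 1 := by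
  obtain ⟨m, hm⟩ := exists_mask h.data hx
  have hm' : HM (γ 1) (cc γ) ((ev γ wy)⁻¹ * x * ev γ wy) m := by
    rcases hf with e | e
    · rw [e]; exact hm
    · rw [e]
      have := mul h.data hx hm (mask_a h.data)
      rwa [Nat.xor_zero] at this
  have h0 : m = 0 := by
    apply fix_check m hm.1
    intro i hi
    obtain ⟨l, hl, e, he⟩ := S_rel h ⟨i, hi⟩
    have hac : ∀ i, γ 1 * cc γ i = cc γ i * γ 1 := fun i => h.Q_comm (h.cc_mem i)
    obtain ⟨c1, c2⟩ := conj_mask hac h.aa (h.Q_comm hx) (h.a_conj y_mem) hm he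
    rw [hl] at c1 c2
    have h4 := hm'.2 ⟨i, hi⟩
    cases hb : m.testBit i with
    | false =>
      cases hp : parL m (S i) with
      | false => rfl
      | true => exact (not_both h.data _ _ (h4.1 hb) (c2 hp)).elim
    | true =>
      cases hp : parL m (S i) with
      | false => exact (not_both h.data _ _ (c1 hp) (h4.2 hb)).elim
      | true => rfl
  rw [h0] at hm
  exact eq_of_zero h.data h.cardQ hx hm

end ctx

/-! ## Sylow's theorem for a prime dividing the order once -/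

/-- two elements of prime order `p`, `p ∥ |L|`: one is a power of a conjugate of the other -/
theorem exists_conj_pow {L : Type*} [Group L] [Finite L] {p : ℕ} [hp : Fact p.Prime] {x y : L}
    (hL : (Nat.card L).factorization p = 1) (hx : orderOf x = p) (hy : orderOf y = p) :
    ∃ (g : L) (k : ℕ), y = (g * x * g⁻¹) ^ k := by
  have hc : ∀ z : L, orderOf z = p → Nat.card (Subgroup.zpowers z) = p ^ (Nat.card L).factorization p := by
    intro z hz
    rw [Nat.card_zpowers, hz, hL, pow_one]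
  let P : Sylow p L := Sylow.ofCard (Subgroup.zpowers x) (hc x hx)
  let R : Sylow p L := Sylow.ofCard (Subgroup.zpowers y) (hc y hy)
  obtain ⟨g, hg⟩ := MulAction.exists_smul_eq L P R
  have h1 : y ∈ (R : Subgroup L) := Subgroup.mem_zpowers y
  rw [← hg, Sylow.coe_subgroup_smul] at h1
  rw [Subgroup.mem_smul_pointwise_iff_exists] at h1
  obtain ⟨s, hs, e⟩ := h1
  have hs' : s ∈ Subgroup.zpowers x := hs
  rw [← mem_powers_iff_mem_zpowers] at hs'
  obtain ⟨k, rfl⟩ := hs'
  refine ⟨g, k, ?_⟩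
  rw [← e, MulAut.smul_def, MulAut.conj_apply, ← conj_pow]

section main

variable {G : Type u} [Group G] {γ : ℕ → G} (h : Ctx γ)
  {π : Subgroup.centralizer ({γ 1} : Set G) →* alternatingGroup (Fin 9)}
  (D : Cfsg.Agent.KFacts.LargeSheet.Data (Q0 γ) (γ 1) (alternatingGroup (Fin 9)) π)

/-- the central involution of the centralizer -/
abbrev zz (γ : ℕ → G) : Subgroup.centralizer ({γ 1} : Set G) := Cfsg.Agent.KFacts.LargeSheet.Data.zC (γ 1)

include D in
theorem mem_ker {x : Subgroup.centralizer ({γ 1} : Set G)} : x ∈ π.ker ↔ (x : G) ∈ Q0 γ := by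
  rw [MonoidHom.mem_ker, D.ker]

include D in
theorem es : Cfsg.Agent.H6.ORE.ES π.ker (zz γ) where
  normal := inferInstance
  mem := by rw [mem_ker D]; exact D.large.z_mem
  ne := fun e => D.large.z_ne (congrArg Subtype.val e)
  sq := Subtype.ext D.large.z_sq
  central := fun g => Subtype.ext (Subgroup.mem_centralizer_singleton_iff.1 g.2)
  comm := fun x hx y hy => by
    rw [mem_ker D] at hx hy
    rcases D.large.comm _ hx _ hy with e | e
    · exact Or.inl (Subtype.ext e)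
    · exact Or.inr (Subtype.ext e)
  pow := fun x hx => by
    rw [mem_ker D] at hx
    rcases D.large.sq _ hx with e | e
    · exact Or.inl (Subtype.ext e)
    · exact Or.inr (Subtype.ext e)
  nd := fun x hx hxy => by
    rw [mem_ker D] at hx
    have key : ∀ y ∈ Q0 γ, (x : G) * y = y * x := by
      intro y hy
      have hyC : y ∈ Subgroup.centralizer ({γ 1} : Set G) :=
        Subgroup.mem_centralizer_singleton_iff.2 (D.large.comm_z y hy)
      exact congrArg Subtype.val (hxy ⟨y, hyC⟩ (by rw [mem_ker D]; exact hy))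
    rcases D.large.cent _ hx key with e | e
    · exact Or.inl (Subtype.ext e)
    · exact Or.inr (Subtype.ext e)

/-- the element of order five in the centralizer -/
def yy (h : Ctx γ) : Subgroup.centralizer ({γ 1} : Set G) :=
  ⟨ev γ wy, by rw [h.cent]; exact y_mem⟩

theorem yy_pow : yy h ^ 5 = 1 := Subtype.ext (y_pow h)

include D in
theorem yy_fpf {x : Subgroup.centralizer ({γ 1} : Set G)} (hx : x ∈ π.ker)
    (hf : yy h * x * (yy h)⁻¹ = x ∨ yy h * x * (yy h)⁻¹ = x * zz γ) : x = 1 ∨ x = zz γ := by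
  rw [mem_ker D] at hx
  have hz : ∀ g : Subgroup.centralizer ({γ 1} : Set G), g * zz γ = zz γ * g := (es D).central
  have hzz : zz γ * zz γ = 1 := (es D).sq
  have h1 : (yy h)⁻¹ * x * yy h = x ∨ (yy h)⁻¹ * x * yy h = x * zz γ := by
    rcases hf with e | e
    · left
      calc (yy h)⁻¹ * x * yy h = (yy h)⁻¹ * (yy h * x * (yy h)⁻¹) * yy h := by rw [e]
        _ = x := by group
    · right
      have e2 : x = yy h * (x) * (yy h)⁻¹ * zz γ := by
        rw [e, mul_assoc, hzz, mul_one]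
      calc (yy h)⁻¹ * x * yy h = (yy h)⁻¹ * (yy h * x * (yy h)⁻¹ * zz γ) * yy h := by rw [← e2]
        _ = x * ((yy h)⁻¹ * (zz γ * yy h)) := by group
        _ = x * zz γ := by rw [← hz]; group
  rcases y_fpf h hx (by
    rcases h1 with e | e
    · exact Or.inl (congrArg Subtype.val e)
    · exact Or.inr (congrArg Subtype.val e)) with e | e
  · exact Or.inl (Subtype.ext e)
  · exact Or.inr (Subtype.ext e)

/-- fixing a coset of `⟨z⟩` -/
def Fx (γ : ℕ → G) (x g : Subgroup.centralizer ({γ 1} : Set G)) : Prop :=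
  g * x * g⁻¹ = x ∨ g * x * g⁻¹ = x * zz γ

include D in
theorem Fx.mul {x g k : Subgroup.centralizer ({γ 1} : Set G)} (h1 : Fx γ x g) (h2 : Fx γ x k) : Fx γ x (g * k) := by
  have hz : ∀ g : Subgroup.centralizer ({γ 1} : Set G), g * zz γ = zz γ * g := (es D).central
  have hzz : zz γ * zz γ = 1 := (es D).sq
  have e0 : g * k * x * (g * k)⁻¹ = g * (k * x * k⁻¹) * g⁻¹ := by group
  unfold Fx at *
  rw [e0]
  rcases h2 with e | e <;> rw [e]
  · exact h1
  · have e1 : g * (x * zz γ) * g⁻¹ = (g * x * g⁻¹) * zz γ := by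
      calc g * (x * zz γ) * g⁻¹ = g * x * (zz γ * g⁻¹) := by group
        _ = _ := by rw [← hz]; group
    rw [e1]
    rcases h1 with e | e <;> rw [e]
    · exact Or.inr rfl
    · left; rw [mul_assoc, hzz, mul_one]

include D in
theorem Fx.pow {x g : Subgroup.centralizer ({γ 1} : Set G)} (h1 : Fx γ x g) : ∀ n : ℕ, Fx γ x (g ^ n)
  | 0 => by left; simp
  | n + 1 => by rw [pow_succ]; exact Fx.mul D (Fx.pow h1 n) h1

include D in
theorem Fx.of_ker {x q : Subgroup.centralizer ({γ 1} : Set G)} (hx : x ∈ π.ker) (hq : q ∈ π.ker) : Fx γ x q := by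
  rcases (es D).comm q hq x hx with e | e
  · left; rw [e]; group
  · right
    rw [e]
    calc x * q * zz γ * q⁻¹ = x * (q * zz γ * q⁻¹) := by group
      _ = _ := by rw [(es D).central q]; group

include D in
theorem Fx.conj {x g k : Subgroup.centralizer ({γ 1} : Set G)} (h1 : Fx γ x (k * g * k⁻¹)) : Fx γ (k⁻¹ * x * k) g := by
  have hz : ∀ g : Subgroup.centralizer ({γ 1} : Set G), g * zz γ = zz γ * g := (es D).central
  have e0 : g * (k⁻¹ * x * k) * g⁻¹ = k⁻¹ * ((k * g * k⁻¹) * x * (k * g * k⁻¹)⁻¹) * k := by group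
  unfold Fx at *
  rw [e0]
  rcases h1 with e | e <;> rw [e]
  · exact Or.inl rfl
  · right
    calc k⁻¹ * (x * zz γ) * k = k⁻¹ * x * (zz γ * k) := by group
      _ = _ := by rw [← hz]; group

include D in
theorem yy_ne : π (yy h) ≠ 1 := by
  intro e
  have hy : yy h ∈ π.ker := e
  have h0 : cc γ 0 ∈ Q0 γ := h.cc_mem 0
  have hC : cc γ 0 ∈ Subgroup.centralizer ({γ 1} : Set G) :=
    Subgroup.mem_centralizer_singleton_iff.2 (D.large.comm_z _ h0)
  have hk : (⟨cc γ 0, hC⟩ : Subgroup.centralizer ({γ 1} : Set G)) ∈ π.ker := by rw [mem_ker D]; exact h0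
  have h6 := mask_c h.data 0
  rcases yy_fpf h D hk (Fx.of_ker D hk hy) with e1 | e1
  · have e2 : cc γ 0 = 1 := congrArg Subtype.val e1
    rw [e2] at h6
    exact absurd (unique h.data h6 (mask_one h.data)) (by decide +kernel)
  · have e2 : cc γ 0 = γ 1 := congrArg Subtype.val e1
    rw [e2] at h6
    exact absurd (unique h.data h6 (mask_a h.data)) (by decide +kernel)

include D in
theorem order_yy : orderOf (π (yy h)) = 5 := by
  have : Fact (Nat.Prime 5) := ⟨by norm_num⟩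
  refine orderOf_eq_prime ?_ (yy_ne h D)
  rw [← map_pow, yy_pow, map_one]

theorem card_fac : (Nat.card (alternatingGroup (Fin 9))).factorization 5 = 1 := by
  have h1 : Nat.card (alternatingGroup (Fin 9)) = 5 * 36288 := by
    rw [nat_card_alternatingGroup, Nat.card_eq_fintype_card, Fintype.card_fin]
    decide
  rw [h1, Nat.factorization_mul (by norm_num) (by norm_num), Finsupp.add_apply,
    Nat.Prime.factorization_self (by norm_num), Nat.factorization_eq_zero_of_not_dvd (by norm_num)]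

include h D in
/-- every element whose image has order divisible by five is fixed point free -/
theorem fpf_of_dvd {a : Subgroup.centralizer ({γ 1} : Set G)} (ha : 5 ∣ orderOf (π a))
    {x : Subgroup.centralizer ({γ 1} : Set G)} (hx : x ∈ π.ker) (hf : Fx γ x a) : x = 1 ∨ x = zz γ := by
  have hfin := h.fin
  have : Fact (Nat.Prime 5) := ⟨by norm_num⟩
  obtain ⟨m, hm⟩ := ha
  have hm0 : orderOf (π a) ≠ 0 := (orderOf_pos _).ne'
  have hr : orderOf (π a ^ m) = 5 := by
    rw [orderOf_pow' _ (fun h0 => hm0 (by rw [hm, h0])), hm, Nat.gcd_eq_right (Dvd.intro_left 5 rfl)]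
    exact Nat.mul_div_cancel _ (Nat.pos_of_ne_zero fun h0 => hm0 (by rw [hm, h0]))
  obtain ⟨g, k, hgk⟩ := exists_conj_pow card_fac hr (order_yy h D)
  obtain ⟨t, rfl⟩ := D.surj g
  -- `y = (t a^m t⁻¹)^k q`
  have h1 : yy h * ((t * a ^ m * t⁻¹) ^ k)⁻¹ ∈ π.ker := by
    rw [MonoidHom.mem_ker, map_mul, map_inv, map_pow, map_mul, map_mul, map_inv, map_pow, ← hgk, mul_inv_cancel]
  have hx' : t * x * t⁻¹ ∈ π.ker := (inferInstance : π.ker.Normal).conj_mem x hx t
  have h2 : Fx γ (t * x * t⁻¹) (t * a ^ m * t⁻¹) := by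
    have h3 : Fx γ (t⁻¹⁻¹ * x * t⁻¹) (t * a ^ m * t⁻¹) := by
      apply Fx.conj D
      have e : t⁻¹ * (t * a ^ m * t⁻¹) * t⁻¹⁻¹ = a ^ m := by group
      rw [e]
      exact Fx.pow D hf m
    rwa [inv_inv] at h3
  have h4 : Fx γ (t * x * t⁻¹) (yy h) := by
    have h5 := Fx.mul D (Fx.of_ker D hx' h1) (Fx.pow D h2 k)
    rwa [inv_mul_cancel_right] at h5
  rcases yy_fpf h D hx' h4 with e | e
  · left
    calc x = t⁻¹ * (t * x * t⁻¹) * t := by group
      _ = 1 := by rw [e]; group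
  · right
    calc x = t⁻¹ * (t * x * t⁻¹) * t := by group
      _ = t⁻¹ * (zz γ * t) := by rw [e]; group
      _ = zz γ := by rw [← (es D).central]; group

include h D in
/-- `C/Q` acts faithfully on `Q/⟨z⟩` -/
theorem faithful {c : Subgroup.centralizer ({γ 1} : Set G)} (hc : ∀ x ∈ π.ker, Fx γ x c) : c ∈ π.ker := by
  by_contra hno
  let N : Subgroup (Subgroup.centralizer ({γ 1} : Set G)) :=
    { carrier := {g | ∀ x ∈ π.ker, Fx γ x g}
      mul_mem' := fun ha hb x hx => Fx.mul D (ha x hx) (hb x hx)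
      one_mem' := fun x _ => by left; simp
      inv_mem' := fun {g} hg x hx => by
        have h1 := hg (g⁻¹ * x * g) (by
          have := (inferInstance : π.ker.Normal).conj_mem x hx g⁻¹
          rwa [inv_inv] at this)
        have hz := (es D).central
        rcases h1 with e | e
        · left
          have : x = g⁻¹ * x * g := by
            calc x = g * (g⁻¹ * x * g) * g⁻¹ := by group
              _ = _ := e
          rw [inv_inv]; exact this.symm
        · right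
          have : x = g⁻¹ * x * g * zz γ := by
            calc x = g * (g⁻¹ * x * g) * g⁻¹ := by group
              _ = _ := e
          rw [inv_inv]
          calc g⁻¹ * x * g = g⁻¹ * x * g * zz γ * zz γ := by rw [mul_assoc _ (zz γ), (es D).sq, mul_one]
            _ = x * zz γ := by rw [← this] }
  have hN : N.Normal := by
    refine ⟨fun n hn g x hx => ?_⟩
    have h1 := hn (g⁻¹ * x * g) (by
      have := (inferInstance : π.ker.Normal).conj_mem x hx g⁻¹
      rwa [inv_inv] at this)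
    have h2 : Fx γ (g⁻¹⁻¹ * (g⁻¹ * x * g) * g⁻¹) (g * n * g⁻¹) := by
      apply Fx.conj D
      have e : g⁻¹ * (g * n * g⁻¹) * g⁻¹⁻¹ = n := by group
      rw [e]; exact h1
    have e : g⁻¹⁻¹ * (g⁻¹ * x * g) * g⁻¹ = x := by group
    rwa [e] at h2
  have hs : IsSimpleGroup (alternatingGroup (Fin 9)) := alternatingGroup.isSimpleGroup (by simp)
  rcases (hN.map π D.surj).eq_bot_or_eq_top with h1 | h1
  · apply hno
    have h2 : π c ∈ N.map π := ⟨c, hc, rfl⟩
    rw [h1, Subgroup.mem_bot] at h2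
    exact h2
  · have h2 : π (yy h) ∈ N.map π := by rw [h1]; exact Subgroup.mem_top _
    obtain ⟨n, hn, e⟩ := h2
    have h3 : n⁻¹ * yy h ∈ π.ker := by rw [MonoidHom.mem_ker, map_mul, map_inv, e, inv_mul_cancel]
    have h4 : ∀ x ∈ π.ker, Fx γ x (yy h) := fun x hx => by
      have h5 := Fx.mul D (hn x hx) (Fx.of_ker D hx h3)
      rwa [mul_inv_cancel_left] at h5
    have h0 : cc γ 0 ∈ Q0 γ := h.cc_mem 0
    have hC : cc γ 0 ∈ Subgroup.centralizer ({γ 1} : Set G) :=
      Subgroup.mem_centralizer_singleton_iff.2 (D.large.comm_z _ h0)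
    have hk : (⟨cc γ 0, hC⟩ : Subgroup.centralizer ({γ 1} : Set G)) ∈ π.ker := by rw [mem_ker D]; exact h0
    have h6 := mask_c h.data 0
    rcases yy_fpf h D hk (h4 _ hk) with e1 | e1
    · have e2 : cc γ 0 = 1 := congrArg Subtype.val e1
      rw [e2] at h6
      exact absurd (unique h.data h6 (mask_one h.data)) (by decide +kernel)
    · have e2 : cc γ 0 = γ 1 := congrArg Subtype.val e1
      rw [e2] at h6
      exact absurd (unique h.data h6 (mask_a h.data)) (by decide +kernel)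

include h D in
/-- **every element of the centralizer is a commutator** -/
theorem isC_centralizer (c : Subgroup.centralizer ({γ 1} : Set G)) : IsC c := by
  have hfin := h.fin
  by_cases hc : c ∈ π.ker
  · -- elements of `Q`
    have key : ∀ x ∈ π.ker, ∃ ζ : Subgroup.centralizer ({γ 1} : Set G), (ζ = 1 ∨ ζ = zz γ) ∧ IsC (x * ζ) := by
      intro x hx
      obtain ⟨u, -, v, hv, ζ, hζ, e⟩ := Cfsg.Agent.H6.ORE.FPz.of_left (es D) (a := yy h) 1
        (fun x hx hf => yy_fpf h D hx hf) x hx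
      refine ⟨ζ, hζ, v, yy h, ?_⟩
      have hz := (es D).central
      have hzi : ζ * ζ = 1 := by
        rcases hζ with rfl | rfl
        · simp
        · exact (es D).sq
      calc x * ζ = u * (1 * u * 1⁻¹)⁻¹ * (v * (yy h * v * (yy h)⁻¹)⁻¹) * (ζ * ζ) := by rw [← mul_assoc, ← e]
        _ = _ := by rw [hzi]; group
    by_cases h1 : c = 1
    · rw [h1]; exact isC_one
    by_cases h2 : c = zz γ
    · rw [h2]
      -- two non-commuting elements of `Q`
      have : ∃ x ∈ π.ker, ∃ y ∈ π.ker, x * y ≠ y * x := by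
        by_contra hno
        push Not at hno
        have h0 : cc γ 0 ∈ Q0 γ := h.cc_mem 0
        have hC : cc γ 0 ∈ Subgroup.centralizer ({γ 1} : Set G) :=
          Subgroup.mem_centralizer_singleton_iff.2 (D.large.comm_z _ h0)
        have hk : (⟨cc γ 0, hC⟩ : Subgroup.centralizer ({γ 1} : Set G)) ∈ π.ker := by rw [mem_ker D]; exact h0
        have h6 := mask_c h.data 0
        rcases (es D).nd _ hk (fun y hy => hno _ hk y hy) with e1 | e1
        · have e2 : cc γ 0 = 1 := congrArg Subtype.val e1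
          rw [e2] at h6
          exact absurd (unique h.data h6 (mask_one h.data)) (by decide +kernel)
        · have e2 : cc γ 0 = γ 1 := congrArg Subtype.val e1
          rw [e2] at h6
          exact absurd (unique h.data h6 (mask_a h.data)) (by decide +kernel)
      obtain ⟨x, hx, y, hy, hxy⟩ := this
      rcases (es D).comm x hx y hy with e | e
      · exact absurd e hxy
      · refine ⟨x, y, ?_⟩
        rw [e, (es D).central]
        group
    · -- `c` and `c z` are conjugate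
      obtain ⟨ζ, hζ, hcz⟩ := key c hc
      rcases hζ with rfl | rfl
      · rwa [mul_one] at hcz
      · have : ∃ y ∈ π.ker, c * y ≠ y * c := by
          by_contra hno
          push Not at hno
          rcases (es D).nd _ hc (fun y hy => hno y hy) with e1 | e1
          · exact h1 e1
          · exact h2 e1
        obtain ⟨y, hy, hne⟩ := this
        rcases (es D).comm c hc y hy with e | e
        · exact absurd e hne
        · refine IsC.of_conj y⁻¹ ?_
          have e3 : y⁻¹ * c * y⁻¹⁻¹ = c * zz γ := by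
            rw [inv_inv, mul_assoc, e]
            group
          rwa [e3]
  · obtain ⟨α, β, e, h5, -⟩ := Cfsg.Agent.H683.Ore.A9.oreF_all (MulEquiv.refl (alternatingGroup (Fin 9))) (π c)
    obtain ⟨a, rfl⟩ := D.surj α
    obtain ⟨b, rfl⟩ := D.surj β
    have hfp : Cfsg.Agent.H6.ORE.FPz π.ker (zz γ) a b :=
      Cfsg.Agent.H6.ORE.FPz.of_left (es D) b (fun x hx hf => fpf_of_dvd h D h5 hx hf)
    obtain ⟨a', b', -, -, e'⟩ := (es D).lift π hfp e (by
      by_contra hno
      push Not at hno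
      exact hc (faithful h D fun x hx => hno x hx))
    exact ⟨a', b', e'⟩

end main

/-- **Every element of `Th` which commutes with the involution `gTh 1` is a commutator.** -/
theorem isC_of_comm {x : Cfsg.Spor.Th} (hx : x * gTh 1 = gTh 1 * x) : IsC x := by
  obtain ⟨π, D⟩ := Cfsg.Agent.KFacts.Th.Main.exists_data Cfsg.Agent.KFacts.Th.Main.ctx
  have hC : x ∈ Subgroup.centralizer ({gTh 1} : Set Cfsg.Spor.Th) := Subgroup.mem_centralizer_singleton_iff.2 hx
  exact IsC.of_sub _ hC (isC_centralizer Cfsg.Agent.KFacts.Th.Main.ctx D ⟨x, hC⟩)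

/-- **Every element of `Th` which commutes with an involution is a commutator.** -/
theorem isC_of_comm_inv {x i : Cfsg.Spor.Th} (hi : orderOf i = 2) (hx : x * i = i * x) : IsC x := by
  obtain ⟨g, hg⟩ := isConj_iff.1 (MonsterX.ThOneClass.oneClass i (gTh 1) hi MonsterX.ThOneClass.orderOf_a)
  refine IsC.of_conj g (isC_of_comm ?_)
  rw [← hg]
  calc g * x * g⁻¹ * (g * i * g⁻¹) = g * (x * i) * g⁻¹ := by group
    _ = g * (i * x) * g⁻¹ := by rw [hx]
    _ = g * i * g⁻¹ * (g * x * g⁻¹) := by group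

end Cfsg.Agent.H980.Ore.ThLoc
end

private theorem dce_05d898976be5 : _root_.True := by
  try have : _root_.True := by simp only [_root_.Cfsg.Agent.H980.Ore.ThLoc.pa.eq_1]
  try have : _root_.True := by simp only [_root_.Cfsg.Agent.H980.Ore.ThLoc.yy.congr_simp]
  try have : _root_.True := by simp only [_root_.Cfsg.Agent.H683.Ore.A9.types.eq_1]
  try have : _root_.True := by simp only [_root_.Cfsg.Agent.H980.Ore.ThLoc.parL.eq_1]
  exact _root_.True.intro
end

-- part: H740/OreM/Lift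
section
prune_inst 0x700440000000001800100000184080000002004880000000030201098040200400000a2000108000085000000000000001000000000000000800000000000000000000000000000000000000000000000000000000000000000000000000000000000
set_option linter.all false
open scoped Cfsg.Agent.FastGrp

/-!
# The situation `Rad`, `p = 3`: commutators modulo `⟨x⟩` (helper740)

`Good y` : `y = a b a⁻¹ b⁻¹`, `b ^ 3 = 1`, and `b` commutes with its conjugate under `a b a⁻¹`.

* `exists_comm` : if the `3`-elements of `A` are good then every `3`-element of `D` is a commutator modulo `⟨x⟩`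
-/

set_option autoImplicit false
set_option linter.unusedSectionVars false

namespace Cfsg.Agent.H740.OreM.Lift

open Subgroup Cfsg Cfsg.Agent.BpSpor.M5

universe u v

/-- `b'` is the conjugate of `b` under `a` -/
def Good {A : Type u} [Group A] (y : A) : Prop := ∃ a b : A, a * b * a⁻¹ * b⁻¹ = y ∧ b ^ 3 = 1 ∧
  Commute b (a * b * a⁻¹ * b * (a * b * a⁻¹)⁻¹)

/-- a wreath-like relation -/
theorem pow_nine {Q : Type u} [Group Q] {p q : Q} (hp : p ^ 3 = 1) (hq : q ^ 3 = 1)
    (hc : Commute p (q * p * q⁻¹)) : (q * p⁻¹) ^ 9 = 1 := by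
  set r := q * p * q⁻¹ with hr
  set s := q * r * q⁻¹ with hs
  have hsq : q * s * q⁻¹ = p := by
    rw [hs, hr]
    calc q * (q * (q * p * q⁻¹) * q⁻¹) * q⁻¹ = q ^ 3 * p * (q ^ 3)⁻¹ := by rw [pow_three]; group
      _ = p := by rw [hq]; group
  have h1 : (q * p⁻¹) ^ 3 = r⁻¹ * s⁻¹ * p⁻¹ := by
    calc (q * p⁻¹) ^ 3 = (q * p * q⁻¹)⁻¹ * (q * (q * p * q⁻¹) * q⁻¹)⁻¹ * (q ^ 3 * p * (q ^ 3)⁻¹)⁻¹ * q ^ 3 := by
          rw [pow_three, pow_three]
          group
      _ = _ := by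
        rw [hq, ← hr, ← hs]
        group
  have hrs : Commute r s := by
    have := hc
    show r * s = s * r
    rw [hs]
    have h2 : q * (p * (q * p * q⁻¹)) * q⁻¹ = q * ((q * p * q⁻¹) * p) * q⁻¹ := by rw [← hr, hc.eq]
    calc r * (q * r * q⁻¹) = q * (p * (q * p * q⁻¹)) * q⁻¹ := by rw [hr]; group
      _ = q * ((q * p * q⁻¹) * p) * q⁻¹ := h2
      _ = _ := by rw [hr]; group
  have hsp : Commute s p := by
    show s * p = p * s
    have h2 : q * (r * s) * q⁻¹ = q * (s * r) * q⁻¹ := by rw [hrs.eq]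
    calc s * p = (q * r * q⁻¹) * (q * s * q⁻¹) := by rw [hsq, ← hs]
      _ = q * (r * s) * q⁻¹ := by group
      _ = q * (s * r) * q⁻¹ := h2
      _ = (q * s * q⁻¹) * (q * r * q⁻¹) := by group
      _ = p * s := by rw [hsq, ← hs]
  have hr3 : r ^ 3 = 1 := by rw [hr, conj_pow, hp, mul_one, mul_inv_cancel]
  have hs3 : s ^ 3 = 1 := by rw [hs, conj_pow, hr3, mul_one, mul_inv_cancel]
  rw [show 9 = 3 * 3 by norm_num, pow_mul, h1]
  have h3 : Commute (r⁻¹ * s⁻¹) p⁻¹ := (hc.symm.inv_inv).mul_left hsp.inv_inv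
  rw [h3.mul_pow, (hrs.inv_inv).mul_pow, inv_pow, inv_pow, inv_pow, hr3, hs3, hp]
  group

/-- powers of a commuting-up-to-center pair -/
theorem conj_pow_mul {Q : Type u} [Group Q] {p q k : Q} (hk : Commute p k) (h : p * q * p⁻¹ = k * q) (n : ℕ) :
    p ^ n * q * (p ^ n)⁻¹ = k ^ n * q := by
  induction n with
  | zero => group
  | succ n ih =>
    calc p ^ (n + 1) * q * (p ^ (n + 1))⁻¹ = p * (p ^ n * q * (p ^ n)⁻¹) * p⁻¹ := by rw [pow_succ']; group
      _ = (p * k ^ n) * q * p⁻¹ := by rw [ih]; group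
      _ = (k ^ n * p) * q * p⁻¹ := by rw [(hk.pow_right n).eq]
      _ = k ^ n * (p * q * p⁻¹) := by group
      _ = _ := by rw [h, pow_succ]; group

variable {D : Type u} [Group D] [Finite D] {z x : D} {N : Subgroup D} {A : Type v} [Group A]
    {f : ↥(centralizer ({z} : Set D)) →* A}

theorem cube (h : Rad 3 z x N f) (i : ℤ) : (x ^ i) ^ 3 = 1 := by
  rw [← zpow_natCast, ← zpow_mul, mul_comm, zpow_mul, zpow_natCast, ← h.ox, pow_orderOf_eq_one, one_zpow]

/-- a `3`-element of the kernel is a power of `x` -/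
theorem ker_three (h : Rad 3 z x N f) {c : ↥(centralizer ({z} : Set D))} (hc : f c = 1) {k : ℕ}
    (hk : (c : D) ^ 3 ^ k = 1) : ∃ i : ℤ, (c : D) = x ^ i := by
  obtain ⟨i, hi | hi⟩ := h.ker c hc
  · exact ⟨i, hi⟩
  · exfalso
    apply h.z1
    have h1 : Commute (x ^ i) z := (h.xzc i z).symm
    have h2 : ∀ n : ℕ, z ^ (2 * n + 1) = z := by
      intro n
      rw [pow_succ, pow_mul, pow_two, h.zz, one_pow, one_mul]
    obtain ⟨m, hm⟩ := (show Odd (3 ^ (k + 1)) from Odd.pow (by decide))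
    have h3 : (c : D) ^ 3 ^ (k + 1) = 1 := by rw [pow_succ, pow_mul, hk, one_pow]
    rw [hi, h1.mul_pow, pow_succ', pow_mul, cube h, one_pow, one_mul, ← pow_succ', hm, h2] at h3
    exact h3

/-- **lifting a good commutator** -/
theorem exists_lift (h : Rad 3 z x N f) {c : ↥(centralizer ({z} : Set D))} {k : ℕ} (hk : c ^ 3 ^ k = 1)
    (hg : Good (f c)) : ∃ a b : D, a * z = z * a ∧ b ^ 9 = z ∧ ∃ i : ℤ, (c : D) = a * b * a⁻¹ * b⁻¹ * x ^ i := by
  have hp : Fact (Nat.Prime 3) := ⟨Nat.prime_three⟩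
  obtain ⟨a, b, hab, hb3, hcm⟩ := hg
  obtain ⟨a₀, rfl⟩ := h.surj a
  obtain ⟨b₀, rfl⟩ := h.surj b
  have hzc : ∀ d : ↥(centralizer ({z} : Set D)), (d : D) * z = z * d := fun d => mem_centralizer_singleton_iff.1 d.2
  -- the `3`-part of `b₀`
  have h18 : b₀ ^ 18 = 1 := by
    have h1 : f (b₀ ^ 3) = 1 := by rw [map_pow, hb3]
    apply Subtype.ext
    show ((b₀ : D)) ^ 18 = 1
    have h2 : ((b₀ : D) ^ 3) ^ 6 = 1 := by
      obtain ⟨i, hi | hi⟩ := h.ker _ h1
      · have hi' : (b₀ : D) ^ 3 = x ^ i := hi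
        rw [hi', show 6 = 3 * 2 by norm_num, pow_mul, cube h, one_pow]
      · have hi' : (b₀ : D) ^ 3 = x ^ i * z := hi
        have h1 : Commute (x ^ i) z := (h.xzc i z).symm
        rw [hi', h1.mul_pow, show 6 = 3 * 2 by norm_num, pow_mul, cube h, one_pow, one_mul, mul_comm 3 2, pow_mul,
          pow_two, h.zz, one_pow]
    rw [← h2, ← pow_mul]
  set b₁ := b₀ ^ 10 with hb₁
  have hb9 : b₁ ^ 9 = 1 := by
    rw [hb₁, ← pow_mul, show 10 * 9 = 18 * 5 by norm_num, pow_mul, h18, one_pow]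
  have hfb : f b₁ = f b₀ := by
    rw [hb₁, map_pow, show 10 = 3 * 3 + 1 by norm_num, pow_succ, pow_mul, hb3, one_pow, one_mul]
  set p' := a₀ * b₁ * a₀⁻¹ with hp'
  have hp9 : p' ^ 9 = 1 := by rw [hp', conj_pow, hb9, mul_one, mul_inv_cancel]
  have hfp : f p' = f a₀ * f b₀ * (f a₀)⁻¹ := by rw [hp', map_mul, map_mul, map_inv, hfb]
  -- cubes
  have hb3' : ∃ i : ℤ, ((b₁ ^ 3 : ↥(centralizer ({z} : Set D))) : D) = x ^ i := by
    refine ker_three h (by rw [map_pow, hfb, hb3]) (k := 1) ?_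
    have h1 : ((b₁ ^ 3) ^ 3 : ↥(centralizer ({z} : Set D))) = 1 := by rw [← pow_mul]; exact hb9
    rw [pow_one]
    exact congrArg Subtype.val h1
  have hp3' : ∃ i : ℤ, ((p' ^ 3 : ↥(centralizer ({z} : Set D))) : D) = x ^ i := by
    refine ker_three h (by rw [map_pow, hfp, conj_pow, hb3, mul_one, mul_inv_cancel]) (k := 1) ?_
    have h1 : ((p' ^ 3) ^ 3 : ↥(centralizer ({z} : Set D))) = 1 := by rw [← pow_mul]; exact hp9
    rw [pow_one]
    exact congrArg Subtype.val h1
  -- the commutator of `b₁` and its conjugate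
  set q := p' * b₁ * p'⁻¹ with hq
  set κ := b₁ * q * b₁⁻¹ * q⁻¹ with hκ
  have hκf : f κ = 1 := by
    have h1 : f q = f a₀ * f b₀ * (f a₀)⁻¹ * f b₀ * (f a₀ * f b₀ * (f a₀)⁻¹)⁻¹ := by
      rw [hq, map_mul, map_mul, map_inv, hfp, hfb]
    rw [hκ, map_mul, map_mul, map_mul, map_inv, map_inv, h1, hfb, hcm.eq]
    group
  have hκc : ∀ d : ↥(centralizer ({z} : Set D)), Commute d κ := by
    intro d
    apply Subtype.ext
    show (d : D) * κ = κ * d
    obtain ⟨i, hi | hi⟩ := h.ker κ hκf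
    · rw [hi, h.xzc]
    · rw [hi, ← mul_assoc, h.xzc, mul_assoc, hzc, mul_assoc]
  have hκ9 : κ ^ 9 = 1 := by
    have h1 : b₁ * q * b₁⁻¹ = κ * q := by rw [hκ]; group
    have h2 := conj_pow_mul (hκc b₁) h1 9
    rw [hb9, one_mul, inv_one, mul_one] at h2
    exact (mul_eq_right.1 h2.symm)
  obtain ⟨l, hl⟩ := ker_three h hκf (k := 2) (congrArg Subtype.val hκ9)
  -- in `D / ⟨x⟩`
  have hZ : (zpowers x).Normal := h.normalZ
  set π := QuotientGroup.mk' (zpowers x) with hπ
  have hπx : ∀ i : ℤ, π (x ^ i) = 1 := fun i => (QuotientGroup.eq_one_iff _).2 (zpow_mem (mem_zpowers x) i)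
  have h9 : (π (p' : D) * (π (b₁ : D))⁻¹) ^ 9 = 1 := by
    refine pow_nine ?_ ?_ ?_
    · obtain ⟨i, hi⟩ := hb3'
      rw [← map_pow, show (b₁ : D) ^ 3 = x ^ i from hi, hπx]
    · obtain ⟨i, hi⟩ := hp3'
      rw [← map_pow, show (p' : D) ^ 3 = x ^ i from hi, hπx]
    · show π (b₁ : D) * (π (p' : D) * π (b₁ : D) * (π (p' : D))⁻¹) = (π (p' : D) * π (b₁ : D) * (π (p' : D))⁻¹) * π (b₁ : D)
      have h1 : (b₁ : D) * q * (b₁ : D)⁻¹ * (q : D)⁻¹ = x ^ l := hl
      have h2 : π ((b₁ : D) * q * (b₁ : D)⁻¹ * (q : D)⁻¹) = 1 := by rw [h1, hπx]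
      rw [map_mul, map_mul, map_mul, map_inv, map_inv, mul_inv_eq_one, mul_inv_eq_iff_eq_mul] at h2
      have h3 : π (q : D) = π (p' : D) * π (b₁ : D) * (π (p' : D))⁻¹ := by
        rw [← map_inv, ← map_mul, ← map_mul]
        rfl
      rw [← h3]
      exact h2
  set t := p' * b₁⁻¹ with ht
  have ht27 : (t : D) ^ 3 ^ 3 = 1 := by
    have h1 : π ((t : D) ^ 9) = 1 := by
      rw [map_pow, ← h9, ← map_inv, ← map_mul]
      rfl
    obtain ⟨i, hi⟩ := mem_zpowers_iff.1 ((QuotientGroup.eq_one_iff _).1 h1)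
    rw [show 3 ^ 3 = 9 * 3 by norm_num, pow_mul, ← hi, cube h]
  have hft : f t = f c := by
    rw [ht, map_mul, map_inv, hfp, hfb, hab]
  -- `c = t x ^ i`
  have hct : ∃ i : ℤ, (c : D) = t * x ^ i := by
    have h1 : f (t⁻¹ * c) = 1 := by rw [map_mul, map_inv, hft, inv_mul_cancel]
    obtain ⟨i, hi | hi⟩ := h.ker _ h1
    · refine ⟨i, ?_⟩
      have hi' : (t : D)⁻¹ * c = x ^ i := hi
      rw [← hi']
      group
    · exfalso
      have hi' : (t : D)⁻¹ * c = x ^ i * z := hi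
      have h2 : (c : D) = t * (x ^ i * z) := by rw [← hi']; group
      have hcx : Commute (t : D) (x ^ i * z) := by
        show (t : D) * (x ^ i * z) = x ^ i * z * t
        rw [← mul_assoc, h.xzc, mul_assoc, hzc, mul_assoc]
      have h3 : (c : D) ^ 3 ^ (3 + k + 1) = 1 := by
        have : (c : D) ^ 3 ^ k = 1 := congrArg Subtype.val hk
        rw [show 3 ^ (3 + k + 1) = 3 ^ k * 3 ^ 4 by ring, pow_mul, this, one_pow]
      have h1' : Commute (x ^ i) z := (h.xzc i z).symm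
      rw [h2, hcx.mul_pow, h1'.mul_pow, show 3 ^ (3 + k + 1) = 3 ^ 3 * 3 ^ (k + 1) by ring, pow_mul, ht27, one_pow,
        one_mul, show 3 ^ 3 * 3 ^ (k + 1) = 3 * 3 ^ (k + 3) by ring, pow_mul (x ^ i), cube h, one_pow, one_mul] at h3
      obtain ⟨m, hm⟩ := (show Odd (3 * 3 ^ (k + 3)) from Odd.mul (by decide) (Odd.pow (by decide)))
      rw [hm, pow_succ, pow_mul, pow_two, h.zz, one_pow, one_mul] at h3
      exact h.z1 h3
  obtain ⟨i, hi⟩ := hct
  refine ⟨a₀, b₁ * z, hzc a₀, ?_, i, ?_⟩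
  · have h1 : Commute (b₁ : D) z := hzc b₁
    rw [h1.mul_pow, show (b₁ : D) ^ 9 = 1 from congrArg Subtype.val hb9, one_mul, show 9 = 2 * 4 + 1 by norm_num,
      pow_succ, pow_mul, pow_two, h.zz, one_pow, one_mul]
  · rw [hi]
    have h2 : (a₀ : D) * (b₁ * z) * (a₀ : D)⁻¹ * (b₁ * z)⁻¹ = t := by
      have h3 : (a₀ : D)⁻¹ * z = z * (a₀ : D)⁻¹ := ((show Commute (a₀ : D) z from hzc a₀).inv_left).eq
      calc (a₀ : D) * (b₁ * z) * (a₀ : D)⁻¹ * (b₁ * z)⁻¹ = a₀ * b₁ * (z * (a₀ : D)⁻¹) * z⁻¹ * (b₁ : D)⁻¹ := by group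
        _ = a₀ * b₁ * ((a₀ : D)⁻¹ * z) * z⁻¹ * (b₁ : D)⁻¹ := by rw [h3]
        _ = a₀ * b₁ * (a₀ : D)⁻¹ * (b₁ : D)⁻¹ := by group
        _ = t := rfl
    rw [h2]

/-- an element of `N` centralized by `b` modulo `⟨x⟩`, `b ^ 9 = z` -/
theorem mem_of_fix (h : Rad 3 z x N f) {b n : D} (hb : b ^ 9 = z) (hn : n ∈ N) {i : ℤ}
    (hi : b * n * b⁻¹ = n * x ^ i) : n ∈ zpowers x := by
  have hp : Fact (Nat.Prime 3) := ⟨Nat.prime_three⟩
  have h1 : b * n * b⁻¹ = x ^ i * n := by rw [hi, h.xzc]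
  have h2 := conj_pow_mul (show Commute b (x ^ i) from h.xzc i b) h1 9
  rw [hb, show 9 = 3 * 3 by norm_num, pow_mul, cube h, one_pow, one_mul, mul_inv_eq_iff_eq_mul] at h2
  exact h.cN n hn h2.symm

/-- **the coset** -/
theorem exists_comm_of (h : Rad 3 z x N f) {a b n : D} (ha : a * z = z * a) (hb : b ^ 9 = z) (hn : n ∈ N) :
    ∃ n₁ ∈ N, ∃ i : ℤ, n * (a * b * a⁻¹ * b⁻¹) = n₁ * a * b * (n₁ * a)⁻¹ * b⁻¹ * x ^ i := by
  have hZ : (zpowers x).Normal := h.normalZ
  have hN := h.nN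
  set π := QuotientGroup.mk' (zpowers x) with hπ
  have hπx : ∀ i : ℤ, π (x ^ i) = 1 := fun i => (QuotientGroup.eq_one_iff _).2 (zpow_mem (mem_zpowers x) i)
  set b' := a * b * a⁻¹ with hb'
  have hb9 : b' ^ 9 = z := by
    rw [hb', conj_pow, hb, ha, mul_inv_cancel_right]
  have hNn : (N.map π).Normal := hN.map π (QuotientGroup.mk'_surjective _)
  let F : ↥(N.map π) → ↥(N.map π) := fun m => m * ⟨π b' * (m : D ⧸ zpowers x)⁻¹ * (π b')⁻¹,
    hNn.conj_mem _ ((N.map π).inv_mem m.2) _⟩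
  have hF : ∀ m, ((F m : ↥(N.map π)) : D ⧸ zpowers x) = m * (π b' * (m : D ⧸ zpowers x)⁻¹ * (π b')⁻¹) := fun m => rfl
  have hinj : Function.Injective F := by
    intro m m' hmm
    have h1 : (m : D ⧸ zpowers x) * (π b' * (m : D ⧸ zpowers x)⁻¹ * (π b')⁻¹) =
        m' * (π b' * (m' : D ⧸ zpowers x)⁻¹ * (π b')⁻¹) := by
      rw [← hF, ← hF, hmm]
    have h2 : (m : D ⧸ zpowers x) * π b' * (m : D ⧸ zpowers x)⁻¹ = m' * π b' * (m' : D ⧸ zpowers x)⁻¹ := by
      have := congrArg (fun t => t * π b') h1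
      simpa [mul_assoc] using this
    have h3 : π b' * ((m' : D ⧸ zpowers x)⁻¹ * m) * (π b')⁻¹ = (m' : D ⧸ zpowers x)⁻¹ * m := by
      calc π b' * ((m' : D ⧸ zpowers x)⁻¹ * m) * (π b')⁻¹
          = (m' : D ⧸ zpowers x)⁻¹ * (m' * π b' * (m' : D ⧸ zpowers x)⁻¹) * m * (π b')⁻¹ := by group
        _ = (m' : D ⧸ zpowers x)⁻¹ * (m * π b' * (m : D ⧸ zpowers x)⁻¹) * m * (π b')⁻¹ := by rw [h2]
        _ = _ := by group
    obtain ⟨s, hs, hsm⟩ : (m' : D ⧸ zpowers x)⁻¹ * m ∈ N.map π := (N.map π).mul_mem ((N.map π).inv_mem m'.2) m.2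
    rw [← hsm, ← map_mul, ← map_inv, ← map_mul] at h3
    have h4 : s⁻¹ * (b' * s * b'⁻¹) ∈ zpowers x := QuotientGroup.eq.1 h3.symm
    obtain ⟨i, hi⟩ := mem_zpowers_iff.1 h4
    have h5 : b' * s * b'⁻¹ = s * x ^ i := by rw [hi]; group
    have h6 := mem_of_fix h hb9 hs h5
    have h7 : π s = 1 := (QuotientGroup.eq_one_iff _).2 h6
    rw [h7] at hsm
    apply Subtype.ext
    exact (inv_mul_eq_one.1 hsm.symm).symm
  have hsurj : Function.Surjective F := Finite.surjective_of_injective hinj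
  obtain ⟨⟨_, n₁, hn₁, rfl⟩, hm⟩ := hsurj ⟨π n, ⟨n, hn, rfl⟩⟩
  have h1 : π n₁ * (π b' * (π n₁)⁻¹ * (π b')⁻¹) = π n := by
    have := congrArg Subtype.val hm
    exact this
  rw [← map_inv, ← map_inv, ← map_mul, ← map_mul, ← map_mul] at h1
  have h2 : (n₁ * (b' * n₁⁻¹ * b'⁻¹))⁻¹ * n ∈ zpowers x := QuotientGroup.eq.1 h1
  obtain ⟨i, hi⟩ := mem_zpowers_iff.1 h2
  refine ⟨n₁, hn₁, i, ?_⟩
  have h3 : n = n₁ * (b' * n₁⁻¹ * b'⁻¹) * x ^ i := by rw [hi]; group
  rw [h3]
  calc n₁ * (b' * n₁⁻¹ * b'⁻¹) * x ^ i * (b' * b⁻¹) = n₁ * (b' * n₁⁻¹ * b'⁻¹) * (x ^ i * (b' * b⁻¹)) := by group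
    _ = n₁ * (b' * n₁⁻¹ * b'⁻¹) * ((b' * b⁻¹) * x ^ i) := by rw [h.xzc]
    _ = _ := by rw [hb']; group

/-- a `3`-element of `D` is the product of an element of `N` and a `3`-element of `C(z)` -/
theorem exists_three (h : Rad 3 z x N f) {g : D} {e : ℕ} (hg : g ^ 3 ^ e = 1) :
    ∃ n ∈ N, ∃ c : ↥(centralizer ({z} : Set D)), (∃ k, c ^ 3 ^ k = 1) ∧ g = n * c := by
  have hNn := h.nN
  obtain ⟨n, hn, c, hc, hgc⟩ := h.sup g
  set c₀ : ↥(centralizer ({z} : Set D)) := ⟨c, mem_centralizer_singleton_iff.2 hc⟩ with hc₀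
  obtain ⟨b, m, hm, hm2⟩ := Nat.exists_eq_pow_mul_and_not_dvd (n := orderOf c₀) (orderOf_pos c₀).ne' 3 (by norm_num)
  have hcop : Nat.Coprime (3 ^ e) m := (Nat.prime_three.coprime_iff_not_dvd.2 hm).pow_left e
  obtain ⟨u, hu1, hu2⟩ := Nat.chineseRemainder hcop 1 0
  have hmu : m ∣ u := (Nat.modEq_zero_iff_dvd).1 hu2
  have hgu : g ^ u = g := by
    have h1 : g ^ u = g ^ 1 := by
      rw [pow_eq_pow_iff_modEq]
      exact hu1.of_dvd (orderOf_dvd_of_pow_eq_one hg)
    rw [h1, pow_one]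
  set π := QuotientGroup.mk' N with hπ
  have hπg : π g = π c := by
    rw [hgc, map_mul, show π n = 1 from (QuotientGroup.eq_one_iff n).2 hn, one_mul]
  have hπg' : π g = π (c ^ u) := by
    rw [map_pow, ← hπg, ← map_pow, hgu]
  have hcu : (c₀ ^ u) ^ 3 ^ b = 1 := by
    obtain ⟨r, hr⟩ := hmu
    rw [hr, ← pow_mul, show m * r * 3 ^ b = (3 ^ b * m) * r by ring, ← hm2, pow_mul, pow_orderOf_eq_one, one_pow]
  have h1 : (c ^ u)⁻¹ * g ∈ N := QuotientGroup.eq.1 hπg'.symm
  refine ⟨g * (c ^ u)⁻¹, ?_, c₀ ^ u, ⟨b, hcu⟩, ?_⟩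
  · have := hNn.conj_mem _ h1 (c ^ u)
    have e1 : c ^ u * ((c ^ u)⁻¹ * g) * (c ^ u)⁻¹ = g * (c ^ u)⁻¹ := by group
    rwa [e1] at this
  · show g = g * (c ^ u)⁻¹ * c ^ u
    group

/-- **commutators modulo `⟨x⟩`** -/
theorem exists_comm (h : Rad 3 z x N f) (hgood : ∀ y : A, (∃ k, y ^ 3 ^ k = 1) → Good y) {g : D} {e : ℕ}
    (hg : g ^ 3 ^ e = 1) : ∃ a b : D, ∃ i : ℤ, g * x ^ i = a * b * a⁻¹ * b⁻¹ := by
  obtain ⟨n, hn, c, ⟨k, hk⟩, hgc⟩ := exists_three h hg
  obtain ⟨a, b, ha, hb, i, hi⟩ := exists_lift h hk (hgood (f c) ⟨k, by rw [← map_pow, hk, map_one]⟩)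
  obtain ⟨n₁, -, j, hj⟩ := exists_comm_of h ha hb hn
  refine ⟨n₁ * a, b, -(j + i), ?_⟩
  rw [hgc, hi, ← mul_assoc, hj]
  calc n₁ * a * b * (n₁ * a)⁻¹ * b⁻¹ * x ^ j * x ^ i * x ^ (-(j + i))
      = n₁ * a * b * (n₁ * a)⁻¹ * b⁻¹ * (x ^ j * x ^ i * x ^ (-(j + i))) := by group
    _ = _ := by
      rw [← zpow_add, ← zpow_add, show j + i + -(j + i) = 0 by ring, zpow_zero, mul_one]

end Cfsg.Agent.H740.OreM.Lift
end

-- part: H740/OreM/SuzThree
section
prune_inst 0x7004340000000000001000001840a0000000004880000040030201018040004000000a2002108000000008000000001001000010000020000000400000000000000090080000010000008000000000000000000000000000000000000000000000000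
set_option linter.all false
open scoped Cfsg.Agent.FastGrp

/-!
# The 3-elements of `Suz` (helper740)

* `real_suz` : elements of order 3 are conjugate to their inverses
* `good_suz` : `3`-elements are good (`H740.OreM.Lift.Good`)
-/

set_option autoImplicit false
set_option maxRecDepth 1000000
set_option exponentiation.threshold 5000

namespace Cfsg.Agent.H740.OreM.SuzThree

open Cfsg Cfsg.Spor Cfsg.Agent.H123.Cls Cfsg.Agent.H123.Cls.SuzDat Cfsg.Agent.Lib.BitNet Cfsg.Agent.H740.OreM.Lift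
open Cfsg.Agent.H763.Ore.SuzModel (A N A_conj card_A card_N N_le_A)
open Cfsg.Agent.OddHalf.Table.SuzRep (ψ ψ_val ψ_injective)
open Cfsg.Agent.SporadicRecognition.SuzOrder (el)

/-- the table of an element of order 9 -/
noncomputable def pn : ℕ := 0x33ec90d18820b93ab390ac9815c099e9324590087b4fd61d16954fa841e5db3b76e6c4d68b458f1de8d83a7c893477a8f266f824b39cfd3125e33097c9fd5486299108a0f7554a39f26212d889d218714da878af57bb5f6ab3fb0f8072612d6d6dbadf696380925101c5c7921e253542302627b88710549d996db6c2aab6f160e281ff606f5c689630416d1cc40a28e9a19505a67e3ebe6570300a7b3707145488392709ae423a074d59f282ebaaf4700dc5410d475d3f42177d28b4a5501a3ace62855d7d0d6cc2bdc7d9d87d5ceb185dea5cdd8161e53b42d2d75ab14c2288d586833cab1af7acd45424f566f71f448f0e36e648d4757d4b2b00841b2280ec76776a8db3562fb8e89caf9e6a374d50d40616c5d50ca8d4b929a9102a9e57c6645cb691384910c9148ccbc33b2d3a4a411aa4eb82fe272d386051656ae2b826717b7c4139daea46f6bd191b2db153dd47e69bfc0f17cbb434daf2d36c182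d7e326cd11517dd83e9f2766d18d15776e6705bcbe4ef1d59ccd9c6662ad766c4345469ebb1294b9016081017a0dcb9be748a4cdeb947f2d2b1b522cc582270939186224ffeaa8b25bcbf25800197a14bdfd018c27c4ef92ba6c4da32adac79debb8da758d6ceeb01cf769f0cc01b03a8f3ff8f44ff430a5c32a89a2805092e29b5ba10e93a6c8a986422c4cb4691ac35e942345623490010374472578d5a03e6af48db10391571bd97b920f4230b3af2b3c706630ac82668485048e148504f33ae181d50400e5e84800f1587ae05076ccc334dbdc81760614a0530b4691736b7726711561742388b55fe9d68f09eeabc191d36e0a5abb4b7b5e891959c2aa121fbdb2489bd07e49a5f079c0198cca6379789c74068c695bf871f20d1fda46bb39118dcef81d6ecd5bc2daf296d94688dc3a5e318836986edb3f2d445a62209083116c73fc4f831dde48abb19056bb4468530c7f518a707a06035f01491a165b98734839ca3a995aa2b47b953a2f0fdd7f749adb4cd42635a7a37dc350a36b3b222f2f012c205d222402a69407b6528820f5bd45ac896eaff349c60d1efe0c155441f066dd4f63a4f18a69799f97aa659618268ed8522560a3d97b8992b8fa4de3da2ce1ddd2b1973b1ec4edca4a99e30d15f9d63054ce7a1e2356bb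2a1d4af10999acae5146880c970248133916bf56c81cc458ae7355430cdc83edc1c8aa708f2a8b43c80f3cd38f99989e88dc2ba56cf180ebb45c38d4dbcd906532023619beb116b8a940d4467aeec49f3b5634e67ea3a25604a874cd9a6d82d53829776614562fe173781a0dc0509496dc4bcd2b30d3260195a9759870c6523a0f656debe55509421d40b864b95f36b2294cf1d17d781d7ac8d86ab566ea4502c00d615367021164f4d6dce25c35267d5445df825785d34e257585e81db0804ca19e14cc9de745398052e60b1b4eb7118ead4630bedecb5ec00a568121ca4723337e75ba34a767a7c61a45ce362a611bbeda625dab39ef443230aab9a0cf4ce18bce53b6470bf8f8c4e3a6839f9ddd4f062479596dcb81f44219746baf253fecf6da6262fcd3870715a74674ec1bf4fb28319701c6b291175e612c31c2390a5143a31d2e1357892a056563895210dcaa9e622437648aed5c23db891f8e17713361e1b88e62f8e11221221cec3512d42422b6654fcb7447143f782c3e892748b056867688c98c426eb3c742209973622f0ea53685e2bd284b884a5c2069e33baab49eb4bce2bd86cbb96dadd09c2a3b270c6eb3d57419e76ba0cc1c3b41861b0ae908a81dcc039097429f10e4a062527a5a856789ea324811c827d36c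955109e6b0cda0aca106845b9a898138a2c062e600df49636418a73ac0aaedb1ca7b31ec728dda4b506d4ca4dbe4d2f30db3207e18f26d8586d372c25588291f33ef529fb35d306b2e5dbe78846447498683eb14b8c3fcb8c929ab3111082abf2b5cb27d55ba60d4f94325d0077f9f8c3c333d36dc0ddb054e2aee5ecc3c96e6586da8e645611cead14c49f1e5362d206ca27f0cb6e29d129b597b077e4c052a9626eb13bce61fe98b32668a4f89c7a4d6374e10c1a9ec8e91a59066eaebac1c8e5a5928b574faf24e2674cbd44f47cde625c6e87cd3d2d885b6a0cd7d33426306b2de3f37971c9b0a0476de9624808a77a9b8a279e24c9a9b16bbc3c039f7960567b5011a9d8c8712e8730499a228fe9565a29bc6db59ba94ee2b3461003f9dd04c501a1d7fb9f9b85680cb73321b81f863458e8f68794665145d6ad1a19c4ace58926ff42a6bc3ba424d2932518b1368bee23bcd3c1ddb1f4526ca85cd4c0877e8e3e89bc5157ead85a54bcb53c06ef209f61736d918b39e5f254d031d4128b8c19c6a11d161cd2dddfa0e44cf7ec488f4cf5c1ba20510e04b13beb53084ec50c3bbb3705e7ac6a6b464565ec727f5039c06ec8614397ac42140f072309a041213f3ad357dadc6b8b2994d5463af575364417a108f0a409b91863b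d035a84e9ba444a59ac0bc664936ef1e682c2697f3bb0939f83328b9b95cf26010859a4afb6f0d36667f20d43071905e47ce85055f4f2d454486ce1a2366ce6a2a7c9b0f09647ab6296701f2a639248b4c25da986e2e42293597316d9c61f6937c74c5c3524e3c2c3c86ca3e21f6858376020f176ba027d3496297f34ee68bd8c928778d193cecd368de773c419e1303482d4cf0afa2a791c381a35ce70a90217950a1e152af3f495a066585a183d092bbb82f62006d024b7f566cff94e561f0ecbcce6aa63c2cd80ea9974f9cb6a0e07a20b0a7a154b60895714a24e5b7d8b9805b36c6928b2ef020f3101fa726ed5b84b1b52c15c2a6ad6c2e7c35a96451175c114ec37f62d0eec6ce876e776311cd733652f2c64a2a5a3ee995844463ed056f6da433f67c3206c2e9520b7f3560ba8730df7ae2aa6df231cf202295d110686beec8eaa024903ab4b1669394f23c3c52617e5c4ba77335a449bf750d0da525246b92184c62044cfee1e09ab380d0a7497c0cfc437137b3771d71eadb9f656892c9b476f4098b43342550c57f9928ff565ef0100295ceb6bec30919be5109a5c63026047b990d804373186ffd903411aa49886b43259a95bf5357ec3eb823b566576b66957056f1448ac8140bacad5415dd4ea40d905a15583745497434ce4284af2ab13c6ac171ad03680c51c20246b090701439a19e3500322888971a7e8bed1ca93511d6bc81c8aa56cc9e7d80d5662a5275960108cf57a4f64eae67e2f0d6750b7a47748775f63daaa5cacb2f32d00111a9cd6ecba3305fc0948d6644b7750514d160c3ada7a120cd35859af964b6fa3ebe6009870320120bc970e2bb21070ed6fa5437c9955b07c4200b01d04f57065db5bb16a06f02a62b5d1c458e9840ec019120881fc0f560c294c71fd88aea096abe150ba1880a00c04168018d58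

/-- the words -/
def aw : List ℕ := [1, 4, 2, 4, 0]
def vw : List ℕ := [2, 1, 6, 5, 3, 1, 2, 1, 3, 5, 6, 1]

/-- two words have the same value -/
noncomputable def eqw (l m : List ℕ) : Bool :=
  band (chkL 7 l) (band (chkL 7 m) (allN (fun p => Nat.beq (evw 11 gens l p) (evw 11 gens m p)) 1782))

private noncomputable def un : Lib.PermNet.Net := Nt.bn 11 [0x15f4abbce44ce108d1a0c5ca56d8e6ee0d73c8627348405b2437674c86c313f97aa934e73f41308d4c7cfa6e2a359597ffbd0a899f5125516a136f7ba8aab00c568844e2d308d422840e13d1784c2cc9434ca8a257702f7249e9ec876907fab739e7d3fbfa4d294f1a52ec950481d49830ea2e983fc0b2e72dceeee830b64dea15f4abbce44ce108d1a0c5ca56d8e6ee0d73c8627348405b2437674c86c313f97ab7da13ee1773e176a4334357c9bfa2fc0088902d83438cdb173c7e101af51d3c4298fc21204915e0e67d494c495774249efc717bf4d473cf2cf9cf1bb4ab2fcc825389ede8436998a0bac8ed062615887b61462521d12e67d3a5a75efdcf1c,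
  0x244703588fbb28f8e03bcc7cfefa5e6706aeb2587345cdb8c54df6595fffcee9ea31cb4b2ad4ca0618c87a032e7dac00435587aa0ca33e7c1242a2abaf73e7be25f702588ffb08f060bb4836ec6a7a6d0edd321a734dcde8c54ff05d5d7ddc0080a8002d538127bb45cddb5f2c0cc25f271d7dda3bc7ac45ffa25aa54c54dc0c2023e849ba82b0342f889c2f675d5060107bbaa6a052ac32196e46df51aada1d7b079c8c81e4eab75135621553ca3f73568c0c79188dc510f09139ea959b3c5ce02bac48ab11beb621d19e1f6e5f5960b2f7ac2fa861bc169aeecedd78bade1b7b1fa3f591d90a673a4660a02a976d1cd3b10bcf9ed235b347fcbdd7103397ce,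
  0xb9f6b9c8d442be9d811b1d8cfa9247e26ca75813be00288ec16727ed7099a5af99c0192cf74a1745b1b2d1ec8860bb626389aa73ec4c6185c412b2e9a8f33db66f764fddc785fc52bbee13c8979949526c38c427d6725986b6c6c7efb96f366d3cc67d6aa7c19b512d8e26c386014d6ebd2a48272f584b8a8072e725b9ee242aa6129c7feeb100fb39a90654cfd549c82812e625f30c6c2ef8a5b78e3805ca9be413683f4522aefb39e4b46981f049d948587d8477c85c882aeba9400821d49c2186434c327c24cecd25cfdd8a53c53370339248197e939e9d373462045926aea18b028f79b16f775f2bad180bf05133cfbbc149d754a9dfd9679cf1cf2c8eac,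
  0x6903596af4fd7ad0406e37a5a63dfa3a4db2796a09b11ea8e147e309acdf077e1d39d5b8a72ebd12a11324a34ad51ed10c081592e74dbc70f301cdae8339c0e06d7387fd4a1d7e0b968405a43279c9561d31863e08d50650a22285a626b1ea103ec3dc105cca2394b201c2a31056586e67b71a16d4c0b19cabb488d93095399aecd4e230579638b79e9b7db5b111e33204f7de117eb61e9f8656f1f2b8abbb22df3bf7f5b24022a30456cd3eaff80d3d8d1a6eb4bac5393102d4c712129e3768a5c9a1dc90903939f8cb8d213e368a2ee442a50498966f8ef782a1202e522004dc4ac3ab3c1341c8aad73be17845335b59c68eee21a310cc10c602660d6013ce,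
  0xf512b4eebe2a6ad0e48146bc20618fc0eaf9a450c4c8b7b1ced134700df027b8beea6454b55a60fa9f4d8b159e42287a26afe7dc429184a127c1676211af8410abf34dc20d30f550705318a23f78d64eee46cb3e6e6a0142c60601346ae9709c30b7da58a1c27edf3417ef7aa13abcd4537ee86387ca4367dc4a547d37ddb32a41d3d77e745c7cea69366b73437be4625bf86c6648d04ab10fcac84480d813bccbae2be5e60c3dbb28aa017eceea3388a3faec798ef03af2f236e5f28a86a5c2b84371de0e59769997cda16f924d771654c409e5295dfcc0c8c30da4391291026fb8061e9a14236f7f585e9d1abcb37a5e0a9f523c2932f5784227713d274cdc,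
  0x6d3e24b45d38e6100817d70fc88cd72ca5a85e21c581c500cd925e92e9685e66ade4c8127797ac4026dcf5ae2758fbece797e7f65125c3645d06c1bb5d18d242372087b244c087b6f5f018de7a313b381d7a3d9c8878315e79f6cd237de6c96403d75e50671b0e2039c3e09213d2e084f79f7edc65bacc34d94605205c1737b0a358631ca31211484283d20e3a80e2563fc835db72702152d7d4842cffcf8404671ec600c0456e106245f3b7625a38b0a3fb4a93a1985482e328ddf476a2e3b4a6639c798b759f5ce1c443084cc1148026664608353f0a10a55bf6443d78d6c4aaaef0c026e6c002be3b5837b3f25d186523b4a6b2af5da2efba7ea5692d1508,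
  0x411039be0705ee740865d80af6c4849a5eb1daa85215e07cbce832f0505451048bce66b84bd05702a479b4806d1e220ce8c62834aca78d94561c98b44078da82133005304a66cae62bdf0d9c5f1c8d946cdc40d2c7e1c4222f84eac68eb9061823460768757d634ccc0aaa3c9afadd406d86ad00f0f5ba08c4cd9598b0d5e4901bd999c8a2127958ae5b242835a14b00ae210a20a50bed3270fc38ceb8b2b68ec3898188c640e11266c34290c9a2b1667f7d756ce179623c8bb40790a444db84f1699dd819923ec441b7fc606617f912594918484bf60f0c8e1f4cccd0fe6cda597951eacb099208c1cccbf48b1b034e29c87e284fa48422af53a24ae460d36a,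
  0x84b404a870428e066ce095109a8a31bcd4ca010094b85ca033303cdc466051c05450424460348a202ef082aadeb22562da580424142cc9aa347aa18065b61a10049064046e6e0100898849b8c76e0c286aa0d9d2c986c24ab190c1a47ec4d9364024e9846840ab60527e7c7c4bc80828d660ca8e688cc34a5d4e7e4e17ca0636d2f0cba6b2eac8c0e26420a84a58dc26f4d4328892d02f4ee8c0d690d454240a1e4ecb72ca425110e0c05a62447c53f0eff6dae8b1a28196e80461c83c46b9fc5734e15085464e12a398ac32b68c1faac3c86960e9a4a84e5552262c34b2a4bc9f2a1e5c6968b960a394ccd49fbcb13cb5f05184243c32a06348fd6037549898,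
  0xc87ce444704600747a581858449888cc30408854ec98aa96d0904084106c10aa2880a0ea941c38a01c4080f8c4ac481676aac84e0af088fe3ecc84908c54904c7a4c700670084044b83622f0a6cc428822e0601844140c08062244728034fcaeca80f2ccea44cc644a0846ea1030da6454be24e258a040d0cca8ce968cc05274a8b84870ce80ba48266a02a220d824f8a24282903a30745010002eea2298bafe08d480ae2620f040a8443c881ef4aa12209002f296aad4a62c0a6ce2f26204b0c8303a84f85060da60f26cf254c42e18022a60003000a8d0c8407644005a4020042ee00204260818d4a8ee56626408cc641020fa3c28a6de4ae81a7e045e20f6,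
  0xc0828e80824a048ee046c46a08484cce00280a8080c0c00cc000c80ae880e0a020e448aec0082e800ca660044c20004c4a8aa8c080a2804cc80c824468044a844a48a4a480800e80448480e806060c48c4820c02a042048048802402c00860c0c428026e8a64020e8008a0008cc0cccee0046008c228a4ae4c42044a840024e4400c8684648cc80208c020000ac4062e00882eac88c0c04e0acae820202404604246a80ca2ae4a02a6c0c0242aa02ecae20c40e88c480882e88a4caec46204aa8440c8cae20480488240a8c4804806a0ac644e00cc08ae820ac4240800c4e4482404e84240040c80408ea06cce4080048c0aec40a820c004840082c0ae0e88ca,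
  0x40511404010444041141144104045114044501044014150455114544451410111544544144041110501140415041400544014410054100145044541044010101110040405100440440400511010445005454000414044001405040540005114041104114141404441005415005504151411440450145154141011411540110454014015541044144504510501404014101541111140150111144404110444140140415044114411141144410141544044101104050014014115450441014414111151441444015014110411040500415441401400004415401514014000140441141144100054014000415455405504040044545411040504004115414110141]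

private theorem eqw_of {l m : List ℕ} (h : band (chkL 7 l) (band (chkL 7 m)
    (Nat.beq (Nt.appW (Nat.pow 2 11) 4 SuzNet.ns l (Nt.idP 11)) (Nt.appW (Nat.pow 2 11) 4 SuzNet.ns m (Nt.idP 11)))) = true) :
    eqw l m = true := by
  obtain ⟨hl, h1⟩ := band_true h
  obtain ⟨hm, h1⟩ := band_true h1
  refine band_eq.2 ⟨hl, band_eq.2 ⟨hm, (allN_iff _ _).2 fun p hp => ?_⟩⟩
  have hp' : p < 2 ^ 11 := lt_trans hp (by norm_num)
  have h2 : Nt.appW (2 ^ 11) 4 SuzNet.ns l (Nt.idP 11) = Nt.appW (2 ^ 11) 4 SuzNet.ns m (Nt.idP 11) :=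
    Nat.eq_of_beq_eq_true h1
  rw [(SuzNet.mdl.ev hp hl).1, (SuzNet.mdl.ev hp hm).1, Nat.beq_eq]
  refine SuzNet.mdl.eq_of (Nt.wp_lt SuzNet.mdl.ok hp' _) (Nt.wp_lt SuzNet.mdl.ok hp' _) fun c hc => ?_
  have h3 := congrArg (fun x => Nat.testBit x (2 ^ 11 * c + p)) h2
  rwa [Nt.testBit_appW SuzNet.mdl.ok hc hp', Nt.testBit_appW SuzNet.mdl.ok hc hp',
    Nt.testBit_idP (Nt.wp_lt SuzNet.mdl.ok hp' _), Nt.testBit_idP (Nt.wp_lt SuzNet.mdl.ok hp' _)] at h3

private theorem ckn : band (Nt.chkN 1782 11 4 SuzNet.ns 7 pn un aw vw)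
    (SuzNet.sigG (Nt.popX 11 12 8) (SuzNet.pwF un) key [432, 0, 432, 0, 324, 0, 0]) = true := by decide +kernel

theorem ck9 : chkC 1782 11 gens pn aw vw = true := SuzNet.mdl.chkC_of (band_true ckn).1
theorem cks9 : chkSig 1782 11 row 11 pn key [432, 0, 432, 0, 324, 0, 0] = true := by
  obtain ⟨h1, h3⟩ := band_true ckn
  have hP := Nt.mdl_of SuzNet.mdl.le (band_true h1).1
  have hf : pwM 1782 11 row 11 pn = SuzNet.pwF un := funext fun a => by
    show cnd a.1 (adjM 1782 11 row 11 pn a.2) (fixM 1782 11 11 pn a.2) = _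
    rw [SuzNet.adj_eq hP, hP.fix_eq]
    rfl
  have hp : popF 11 = Nt.popX 11 12 8 := Nt.popX_eq (by norm_num) (by norm_num)
  have e : ∀ P l cs, chkSig 1782 11 row 11 P l cs = SuzNet.sigG (popF 11) (pwM 1782 11 row 11 P) l cs :=
    fun _ _ _ => rfl
  rw [e, hf, hp]
  exact h3
theorem cka : eqw (aw ++ aw.reverse) [] = true := eqw_of (by decide +kernel)
theorem ckv : eqw (vw ++ (vw ++ vw)) [] = true := eqw_of (by decide +kernel)
theorem ckc : eqw (vw ++ ((aw ++ (vw ++ aw.reverse)) ++ (vw ++ (aw ++ ((vw ++ vw) ++ aw.reverse)))))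
    (((aw ++ (vw ++ aw.reverse)) ++ (vw ++ (aw ++ ((vw ++ vw) ++ aw.reverse)))) ++ vw) = true := eqw_of (by decide +kernel)
theorem ck1 : eqw [1, 1] [] = true := eqw_of (by decide +kernel)
theorem ck2 : eqw [2, 2] [] = true := eqw_of (by decide +kernel)
theorem ck3 : eqw [3, 3] [] = true := eqw_of (by decide +kernel)
theorem o4 : allN (fun p => Nat.beq (it 11 p4 3 p) p) 1782 = true := by decide +kernel
theorem o6 : allN (fun p => Nat.beq (it 11 p6 3 p) p) 1782 = true := by decide +kernel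
theorem o36 : allN (fun p => Nat.beq (it 11 p36 3 p) p) 1782 = true := by decide +kernel
theorem o20 : Nat.beq (it 11 p20 3 0) 0 = false := by decide +kernel

theorem mv0 : Nat.beq (it 11 p0 2187 2) 2 = false := by decide +kernel
theorem mv2 : Nat.beq (it 11 p2 2187 0) 0 = false := by decide +kernel
theorem mv3 : Nat.beq (it 11 p3 2187 0) 0 = false := by decide +kernel
theorem mv5 : Nat.beq (it 11 p5 2187 0) 0 = false := by decide +kernel
theorem mv7 : Nat.beq (it 11 p7 2187 0) 0 = false := by decide +kernel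
theorem mv8 : Nat.beq (it 11 p8 2187 0) 0 = false := by decide +kernel
theorem mv9 : Nat.beq (it 11 p9 2187 0) 0 = false := by decide +kernel
theorem mv10 : Nat.beq (it 11 p10 2187 0) 0 = false := by decide +kernel
theorem mv11 : Nat.beq (it 11 p11 2187 0) 0 = false := by decide +kernel
theorem mv12 : Nat.beq (it 11 p12 2187 1) 1 = false := by decide +kernel
theorem mv13 : Nat.beq (it 11 p13 2187 1) 1 = false := by decide +kernel
theorem mv14 : Nat.beq (it 11 p14 2187 1) 1 = false := by decide +kernel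
theorem mv15 : Nat.beq (it 11 p15 2187 0) 0 = false := by decide +kernel
theorem mv16 : Nat.beq (it 11 p16 2187 1) 1 = false := by decide +kernel
theorem mv17 : Nat.beq (it 11 p17 2187 0) 0 = false := by decide +kernel
theorem mv18 : Nat.beq (it 11 p18 2187 0) 0 = false := by decide +kernel
theorem mv19 : Nat.beq (it 11 p19 2187 0) 0 = false := by decide +kernel
theorem mv21 : Nat.beq (it 11 p21 2187 0) 0 = false := by decide +kernel
theorem mv22 : Nat.beq (it 11 p22 2187 0) 0 = false := by decide +kernel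
theorem mv23 : Nat.beq (it 11 p23 2187 0) 0 = false := by decide +kernel
theorem mv24 : Nat.beq (it 11 p24 2187 1) 1 = false := by decide +kernel
theorem mv25 : Nat.beq (it 11 p25 2187 1) 1 = false := by decide +kernel
theorem mv26 : Nat.beq (it 11 p26 2187 0) 0 = false := by decide +kernel
theorem mv27 : Nat.beq (it 11 p27 2187 0) 0 = false := by decide +kernel
theorem mv28 : Nat.beq (it 11 p28 2187 2) 2 = false := by decide +kernel
theorem mv29 : Nat.beq (it 11 p29 2187 0) 0 = false := by decide +kernel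
theorem mv30 : Nat.beq (it 11 p30 2187 1) 1 = false := by decide +kernel
theorem mv31 : Nat.beq (it 11 p31 2187 0) 0 = false := by decide +kernel
theorem mv32 : Nat.beq (it 11 p32 2187 0) 0 = false := by decide +kernel
theorem mv33 : Nat.beq (it 11 p33 2187 1) 1 = false := by decide +kernel
theorem mv34 : Nat.beq (it 11 p34 2187 1) 1 = false := by decide +kernel
theorem mv35 : Nat.beq (it 11 p35 2187 2) 2 = false := by decide +kernel

/-- the representatives of 3-power order -/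
noncomputable def W5 : List (ℕ × List ℕ × List ℕ) := [(p1, [0], [0]), (p4, [2], [1, 6, 5, 3, 1]), (p6, [1], [2]), (p20, [6, 5, 3], [2, 1]), (p36, [3], [4])]

private theorem mk (t : ℕ) (ht : t < 1782) {P : ℕ} {a : List ℕ × List ℕ} (h : Nat.beq (it 11 P 2187 t) t = false) :
    (P, a) ∈ W5 ∨ ∃ t : Fin 1782, Nat.beq (it 11 (P, a).1 2187 t) t = false := Or.inr ⟨⟨t, ht⟩, h⟩

theorem W_mv : ∀ x ∈ W, x ∈ W5 ∨ ∃ t : Fin 1782, Nat.beq (it 11 x.1 2187 t) t = false :=
  List.forall_mem_cons.2 ⟨mk 2 (by norm_num) mv0,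
  List.forall_mem_cons.2 ⟨Or.inl (List.mem_cons_self),
  List.forall_mem_cons.2 ⟨mk 0 (by norm_num) mv2,
  List.forall_mem_cons.2 ⟨mk 0 (by norm_num) mv3,
  List.forall_mem_cons.2 ⟨Or.inl (List.mem_cons_of_mem _ List.mem_cons_self),
  List.forall_mem_cons.2 ⟨mk 0 (by norm_num) mv5,
  List.forall_mem_cons.2 ⟨Or.inl (List.mem_cons_of_mem _ (List.mem_cons_of_mem _ List.mem_cons_self)),
  List.forall_mem_cons.2 ⟨mk 0 (by norm_num) mv7,
  List.forall_mem_cons.2 ⟨mk 0 (by norm_num) mv8,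
  List.forall_mem_cons.2 ⟨mk 0 (by norm_num) mv9,
  List.forall_mem_cons.2 ⟨mk 0 (by norm_num) mv10,
  List.forall_mem_cons.2 ⟨mk 0 (by norm_num) mv11,
  List.forall_mem_cons.2 ⟨mk 1 (by norm_num) mv12,
  List.forall_mem_cons.2 ⟨mk 1 (by norm_num) mv13,
  List.forall_mem_cons.2 ⟨mk 1 (by norm_num) mv14,
  List.forall_mem_cons.2 ⟨mk 0 (by norm_num) mv15,
  List.forall_mem_cons.2 ⟨mk 1 (by norm_num) mv16,
  List.forall_mem_cons.2 ⟨mk 0 (by norm_num) mv17,
  List.forall_mem_cons.2 ⟨mk 0 (by norm_num) mv18,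
  List.forall_mem_cons.2 ⟨mk 0 (by norm_num) mv19,
  List.forall_mem_cons.2 ⟨Or.inl (List.mem_cons_of_mem _ (List.mem_cons_of_mem _ (List.mem_cons_of_mem _ List.mem_cons_self))),
  List.forall_mem_cons.2 ⟨mk 0 (by norm_num) mv21,
  List.forall_mem_cons.2 ⟨mk 0 (by norm_num) mv22,
  List.forall_mem_cons.2 ⟨mk 0 (by norm_num) mv23,
  List.forall_mem_cons.2 ⟨mk 1 (by norm_num) mv24,
  List.forall_mem_cons.2 ⟨mk 1 (by norm_num) mv25,
  List.forall_mem_cons.2 ⟨mk 0 (by norm_num) mv26,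
  List.forall_mem_cons.2 ⟨mk 0 (by norm_num) mv27,
  List.forall_mem_cons.2 ⟨mk 2 (by norm_num) mv28,
  List.forall_mem_cons.2 ⟨mk 0 (by norm_num) mv29,
  List.forall_mem_cons.2 ⟨mk 1 (by norm_num) mv30,
  List.forall_mem_cons.2 ⟨mk 0 (by norm_num) mv31,
  List.forall_mem_cons.2 ⟨mk 0 (by norm_num) mv32,
  List.forall_mem_cons.2 ⟨mk 1 (by norm_num) mv33,
  List.forall_mem_cons.2 ⟨mk 1 (by norm_num) mv34,
  List.forall_mem_cons.2 ⟨mk 2 (by norm_num) mv35,
  List.forall_mem_cons.2 ⟨Or.inl (List.mem_cons_of_mem _ (List.mem_cons_of_mem _ (List.mem_cons_of_mem _ (List.mem_cons_of_mem _ List.mem_cons_self)))),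
  List.forall_mem_nil _⟩⟩⟩⟩⟩⟩⟩⟩⟩⟩⟩⟩⟩⟩⟩⟩⟩⟩⟩⟩⟩⟩⟩⟩⟩⟩⟩⟩⟩⟩⟩⟩⟩⟩⟩⟩⟩

theorem eq_of_eqw {l m : List ℕ} (h : eqw l m = true) : el (l.map gn) = el (m.map gn) := by
  obtain ⟨h1, h2⟩ := band_true h
  obtain ⟨h3, h4⟩ := band_true h2
  apply ψ_injective
  apply Equiv.ext
  intro p
  apply Fin.ext
  rw [ev_tab l (chkL_iff _ l h1), ev_tab m (chkL_iff _ m h3)]
  exact Nat.eq_of_beq_eq_true ((allN_iff _ _).1 h4 p p.2)

theorem el_append (l m : List ℕ) : el ((l ++ m).map gn) = el (l.map gn) * el (m.map gn) := by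
  simp only [el, List.map_append, List.prod_append]

theorem el_nil : el (([] : List ℕ).map gn) = 1 := rfl

/-- the commutator of the words -/
noncomputable def cmw (y : ℕ × List ℕ × List ℕ) : Suz :=
  el (y.2.1.map gn) * el (y.2.2.map gn) * (el (y.2.1.map gn))⁻¹ * (el (y.2.2.map gn))⁻¹

/-- the automorphism induced by an element of `Suz : 2` -/
theorem exists_aut {b : Equiv.Perm (Fin 1782)} (hb : b ∈ A) : ∃ σ : Suz →* Suz, ∀ g, ψ (σ g) = b * ψ g * b⁻¹ := by
  have h : ∀ g : Suz, ∃ g' : Suz, ψ g' = b * ψ g * b⁻¹ := fun g => A_conj hb (⟨g, rfl⟩ : ψ g ∈ N)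
  choose F hF using h
  refine ⟨MonoidHom.mk' F fun g h => ψ_injective ?_, hF⟩
  rw [map_mul, hF, hF, hF, map_mul]
  group

theorem Good.map {A : Type*} {B : Type*} [Group A] [Group B] (σ : A →* B) {y : A} (h : Good y) : Good (σ y) := by
  obtain ⟨a, b, h1, h2, h3⟩ := h
  refine ⟨σ a, σ b, ?_, ?_, ?_⟩
  · rw [← h1]
    simp only [map_mul, map_inv]
  · rw [← map_pow, h2, map_one]
  · have := h3.map σ
    simpa only [map_mul, map_inv] using this

theorem good_of_real {A : Type*} [Group A] {y u : A} (h3 : y ^ 3 = 1) (hu : u * y * u⁻¹ = y⁻¹) : Good y := by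
  refine ⟨u, y, ?_, h3, ?_⟩
  · rw [hu]
    calc y⁻¹ * y⁻¹ = y * (y ^ 3)⁻¹ := by rw [pow_three]; group
      _ = y := by rw [h3]; group
  · rw [hu]
    show y * (y⁻¹ * y * y⁻¹⁻¹) = (y⁻¹ * y * y⁻¹⁻¹) * y
    group

theorem real_comm {A : Type*} [Group A] {s w : A} (hs : s * s = 1) :
    s * (s * w * s⁻¹ * w⁻¹) * s⁻¹ = (s * w * s⁻¹ * w⁻¹)⁻¹ := by
  have h : s⁻¹ = s := inv_eq_of_mul_eq_one_left hs
  calc s * (s * w * s⁻¹ * w⁻¹) * s⁻¹ = (s * s) * (w * s⁻¹ * w⁻¹ * s⁻¹) := by group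
    _ = w * s⁻¹ * w⁻¹ * s⁻¹ := by rw [hs, one_mul]
    _ = w * s * w⁻¹ * s⁻¹ := by rw [h]
    _ = _ := by group

/-- an element of `3`-power order is conjugate under `Suz : 2` to one of the five -/
theorem cases5 {g : Suz} {k : ℕ} (hk : g ^ 3 ^ k = 1) : ∃ y ∈ W5, ∃ σ : Suz →* Suz, g = σ (cmw y) ∧
    (∀ p : Fin 1782, (ψ (cmw y) p : ℕ) = lk 11 y.1 p) ∧ ∀ n : ℕ, g ^ n = 1 → (cmw y) ^ n = 1 := by
  obtain ⟨y, hy, b, hb, h⟩ := words_cover g
  have hg : g ^ 2187 = 1 := by
    have h1 : orderOf g ∣ 3 ^ k := orderOf_dvd_of_pow_eq_one hk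
    obtain ⟨j, -, hj⟩ := (Nat.dvd_prime_pow Nat.prime_three).1 h1
    have h2 := orderOf_dvd_natCard g
    rw [Cfsg.Agent.SporadicRecognition.SuzOrder.card_Suz, hj] at h2
    have h3 : j ≤ 7 := by
      by_contra hcon
      have h4 : 3 ^ 8 ∣ 448345497600 := (pow_dvd_pow 3 (by omega)).trans h2
      norm_num at h4
    exact orderOf_dvd_iff_pow_eq_one.1 (by rw [hj, show 2187 = 3 ^ 7 by norm_num]; exact pow_dvd_pow 3 h3)
  have hpow : ∀ n : ℕ, g ^ n = 1 → (cmw y) ^ n = 1 := by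
    intro n hn
    apply ψ_injective
    have h1 : ψ (g ^ n) = b * (ψ (cmw y)) ^ n * b⁻¹ := by
      rw [map_pow, h]
      exact conj_pow
    rw [hn, map_one] at h1
    rw [map_pow, map_one]
    have h2 : b⁻¹ * 1 * b = b⁻¹ * (b * (ψ (cmw y)) ^ n * b⁻¹) * b := by rw [← h1]
    calc ψ (cmw y) ^ n = b⁻¹ * (b * (ψ (cmw y)) ^ n * b⁻¹) * b := by group
      _ = b⁻¹ * 1 * b := h2.symm
      _ = 1 := by group
  have htab : ∀ p : Fin 1782, (ψ (cmw y) p : ℕ) = lk 11 y.1 p := comm_tab (W_chk y hy)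
  obtain ⟨σ, hσ⟩ := exists_aut hb
  rcases W_mv y hy with h5 | ⟨t, ht⟩
  · exact ⟨y, h5, σ, ψ_injective (by rw [hσ]; exact h), htab, hpow⟩
  · exfalso
    have h1 := hpow _ hg
    rw [it_eq htab 2187 t, ← map_pow, h1, map_one] at ht
    exact absurd ht (by
      rw [show ((1 : Equiv.Perm (Fin 1782)) t : ℕ) = t from rfl, Nat.beq_refl]
      decide)

/-- a real element of order 3 -/
theorem real_of {s : ℕ} {w : List ℕ} {P : ℕ} (hs : eqw [s, s] [] = true) :
    el ([s].map gn) * cmw (P, [s], w) * (el ([s].map gn))⁻¹ = (cmw (P, [s], w))⁻¹ := by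
  have h1 : el ([s].map gn) * el ([s].map gn) = 1 := by
    have := eq_of_eqw hs
    rwa [show [s, s] = [s] ++ [s] from rfl, el_append, el_nil] at this
  exact real_comm h1

theorem cube_of {y : ℕ × List ℕ × List ℕ} (htab : ∀ p : Fin 1782, (ψ (cmw y) p : ℕ) = lk 11 y.1 p)
    (h : allN (fun p => Nat.beq (it 11 y.1 3 p) p) 1782 = true) : (cmw y) ^ 3 = 1 := by
  apply ψ_injective
  rw [map_pow, map_one]
  apply Equiv.ext
  intro p
  apply Fin.ext
  rw [← it_eq htab 3 p]
  exact Nat.eq_of_beq_eq_true ((allN_iff _ _).1 h p p.2)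

/-- **the elements of order 3 are real** -/
theorem real_three {g : Suz} (hg : g ^ 3 = 1) : ∃ u, u * g * u⁻¹ = g⁻¹ := by
  obtain ⟨y, hy, σ, rfl, htab, hpow⟩ := cases5 (g := g) (k := 1) (by rw [pow_one]; exact hg)
  have hr : ∀ u : Suz, u * cmw y * u⁻¹ = (cmw y)⁻¹ → ∃ u, u * σ (cmw y) * u⁻¹ = (σ (cmw y))⁻¹ := by
    intro u hu
    refine ⟨σ u, ?_⟩
    rw [← map_inv, ← map_mul, ← map_mul, hu, map_inv]
  simp only [W5, List.mem_cons, List.not_mem_nil, or_false] at hy
  rcases hy with rfl | rfl | rfl | rfl | rfl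
  · refine hr 1 ?_
    have : cmw (p1, [0], [0]) = 1 := by
      unfold cmw
      group
    rw [this]
    group
  · exact hr _ (real_of ck2)
  · exact hr _ (real_of ck1)
  · exfalso
    have h1 := hpow 3 hg
    have h2 := it_eq htab 3 (⟨0, by norm_num⟩ : Fin 1782)
    rw [← map_pow, h1, map_one] at h2
    have h3 : it 11 p20 3 0 = 0 := h2
    have h4 := o20
    rw [h3] at h4
    exact absurd h4 (by decide)
  · exact hr _ (real_of ck3)

/-- the element of order 9 -/
theorem good_nine : Good (cmw (pn, aw, vw)) := by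
  have ha : el (aw.reverse.map gn) = (el (aw.map gn))⁻¹ := by
    have := eq_of_eqw cka
    rw [el_append, el_nil] at this
    exact (inv_eq_of_mul_eq_one_right this).symm
  have hv : el (vw.map gn) ^ 3 = 1 := by
    have := eq_of_eqw ckv
    rw [el_append, el_append, el_nil] at this
    rw [pow_three]
    exact this
  have hc := eq_of_eqw ckc
  simp only [el_append, ha] at hc
  set a := el (aw.map gn) with ha'
  set v := el (vw.map gn) with hv'
  have hvi : v⁻¹ = v * v := by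
    rw [inv_eq_iff_mul_eq_one, ← hv, pow_three]
  refine ⟨a, v, rfl, hv, ?_⟩
  show v * (a * v * a⁻¹ * v * (a * v * a⁻¹)⁻¹) = a * v * a⁻¹ * v * (a * v * a⁻¹)⁻¹ * v
  have h1 : (a * v * a⁻¹)⁻¹ = a * (v * v) * a⁻¹ := by rw [← hvi]; group
  rw [h1]
  simp only [mul_assoc] at hc ⊢
  exact hc

theorem good_twenty : Good (cmw (p20, [6, 5, 3], [2, 1])) := by
  have h9 : ∀ p : Fin 1782, (ψ (cmw (pn, aw, vw)) p : ℕ) = lk 11 pn p := comm_tab ck9
  obtain ⟨x, hx, r, -, hr, b, hb, h⟩ := suz_cover (ψ (cmw (pn, aw, vw))) ⟨_, rfl⟩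
  have hA : b ∈ Aut 1782 row := H763.Ore.SuzTab.A_le_Aut hb
  have h1 := sig_of_chk (K := 11) (row := row) (by norm_num) h9 cks9 rfl
  have h2 := sig_of_chk (K := 11) (row := row) (by norm_num) hr (D_sg x hx) (D_len x hx)
  have h3 : x.2.2 = [432, 0, 432, 0, 324, 0, 0] := by
    rw [← h1, ← h2]
    refine List.map_congr_left fun a _ => ?_
    rw [h, pwc_conj hA]
  have h20 : ((p20, 53, [432, 0, 432, 0, 324, 0, 0]) : ℕ × ℕ × List ℕ) ∈ D :=
    List.getElem_mem (l := D) (n := 20) (by decide)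
  have h4 : x = (p20, 53, [432, 0, 432, 0, 324, 0, 0]) := List.inj_on_of_nodup_map D_nodup hx h20 h3
  rw [h4] at hr
  have h5 : r = ψ (cmw (p20, [6, 5, 3], [2, 1])) := perm_eq_of_tab hr (comm_tab cm20)
  obtain ⟨σ, hσ⟩ := exists_aut (A.inv_mem hb)
  have h6 : cmw (p20, [6, 5, 3], [2, 1]) = σ (cmw (pn, aw, vw)) := by
    apply ψ_injective
    rw [hσ, h, ← h5]
    group
  rw [h6]
  exact Good.map σ good_nine

/-- **the `3`-elements are good** -/
theorem good_three {g : Suz} {k : ℕ} (hk : g ^ 3 ^ k = 1) : Good g := by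
  obtain ⟨y, hy, σ, rfl, htab, -⟩ := cases5 hk
  refine Good.map σ ?_
  simp only [W5, List.mem_cons, List.not_mem_nil, or_false] at hy
  rcases hy with rfl | rfl | rfl | rfl | rfl
  · have : cmw (p1, [0], [0]) = 1 := by
      unfold cmw
      group
    rw [this]
    exact good_of_real (u := 1) (one_pow 3) (by group)
  · exact good_of_real (cube_of htab o4) (real_of ck2)
  · exact good_of_real (cube_of htab o6) (real_of ck1)
  · exact good_twenty
  · exact good_of_real (cube_of htab o36) (real_of ck3)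

theorem good_suz {S : Type*} [Group S] (h : Spor.IsoSuz S) (y : S) (hy : ∃ k, y ^ 3 ^ k = 1) : Good y := by
  obtain ⟨e⟩ := h
  obtain ⟨k, hk⟩ := hy
  have h1 : Good (e y) := good_three (k := k) (by rw [← map_pow, hk, map_one])
  have h2 := Good.map e.symm.toMonoidHom h1
  have h3 : e.symm.toMonoidHom (e y) = y := e.symm_apply_apply y
  rwa [h3] at h2

theorem real_suz {S : Type*} [Group S] (h : Spor.IsoSuz S) {y : S} (hy : y ^ 3 = 1) : ∃ u, u * y * u⁻¹ = y⁻¹ := by
  obtain ⟨e⟩ := h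
  obtain ⟨u, hu⟩ := real_three (g := e y) (by rw [← map_pow, hy, map_one])
  refine ⟨e.symm u, ?_⟩
  apply e.injective
  rw [map_mul, map_mul, map_inv, map_inv, e.apply_symm_apply, hu]

end Cfsg.Agent.H740.OreM.SuzThree

private theorem dce_6195a03cc8b5 : _root_.True := by
  try have : _root_.True := by simp only [_root_.Cfsg.Agent.H740.OreM.SuzThree.W5.eq_1]
  exact _root_.True.intro
end
end
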